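import Groth.Agent.IntMult.K303.ChiPoints
import Groth.Agent.CycB.StalkLen
import Groth.Agent.CycA.MovRatZ

/-!
# The intersection product of the cycles of two coherent modules
-/

set_option autoImplicit false

universe u

open CategoryTheory AlgebraicGeometry CategoryTheory.Limits

namespace K303.SheafChi

open Groth.Agent Groth.Agent.CycA Groth.Agent.CycB Groth.Agent.CycB.LocQuot
  Groth.Agent.CycA.Devissage Groth.Agent.CycA.ChiRec

variable {K : Type u} [Field K] [IsAlgClosed K] {X : Scheme.{u}}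

theorem ll_stalk (F : X.Modules) (hF : Coh.IsQCoh F) {x ξ : X} (h : ξ ⤳ x) :
    ll (primeOf h) (F.presheaf.stalk x) =
      ((Module.length (X.presheaf.stalk ξ) (F.presheaf.stalk ξ)).toNat : ℤ) := by
  rw [← StalkLen.locLen_stalk F hF h]
  rfl

theorem mem_support_iff (F : X.Modules) (hF : Coh.IsQCoh F) {x : X}
    (q : PrimeSpectrum (X.presheaf.stalk x)) :
    q ∈ Module.support (X.presheaf.stalk x) (F.presheaf.stalk x) ↔
      Nontrivial (F.presheaf.stalk (ptOf q)) := by
  rw [← StalkLen.mem_support_stalk_iff F hF (ptOf_specializes q), primeOf_ptOf]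

theorem nontrivial_of_specializes (F : X.Modules) (hF : Coh.IsQCoh F) {x ξ : X} (h : ξ ⤳ x)
    (hξ : Nontrivial (F.presheaf.stalk ξ)) : Nontrivial (F.presheaf.stalk x) := by
  have h1 := (StalkLen.mem_support_stalk_iff F hF h).2 hξ
  by_contra hcon
  rw [not_nontrivial_iff_subsingleton] at hcon
  rw [Module.support_eq_empty] at h1
  exact h1

theorem nontrivial_of_sheafFun_ne_zero {δ : X → ℤ} {r : ℤ} {F : X.Modules} {ξ : X}
    (h : Cyc.sheafFun δ r F ξ ≠ 0) : δ ξ = r ∧ Nontrivial (F.presheaf.stalk ξ) := by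
  unfold Cyc.sheafFun at h
  split_ifs at h with h1
  · refine ⟨h1, ?_⟩
    by_contra hcon
    rw [not_nontrivial_iff_subsingleton] at hcon
    apply h
    rw [Module.length_eq_zero]
    rfl
  · exact absurd rfl h

theorem intersectProperly {δ : X → ℤ} {n r s : ℤ} (F G : X.Modules) (hF : Coh.IsQCoh F)
    (hG : Coh.IsQCoh G)
    (hrs : ∀ x : X, Nontrivial (F.presheaf.stalk x) → Nontrivial (G.presheaf.stalk x) →
      δ x ≤ r + s - n) :
    IntMult.IntersectProperly δ n (Cyc.sheafFun δ r F) (Cyc.sheafFun δ s G) := by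
  intro ξ η ζ hξ hη hξζ hηζ
  obtain ⟨h1, h2⟩ := nontrivial_of_sheafFun_ne_zero hξ
  obtain ⟨h3, h4⟩ := nontrivial_of_sheafFun_ne_zero hη
  rw [h1, h3]
  exact hrs ζ (nontrivial_of_specializes F hF hξζ h2) (nontrivial_of_specializes G hG hηζ h4)

/-- The intersection product of the cycles of two coherent modules. -/
theorem interProd_sheafFun [IsIntegral X] (f : X ⟶ Spec (CommRingCat.of K)) [Smooth f]
    [IsSeparated f] {δ : X → ℤ} (hδ : Cyc.DeltaCompat f δ (fun _ => 0)) {n r s : ℤ}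
    (hn : δ (genericPoint X) = n) (F G : X.Modules) (hF : Coh.IsCoh F) (hG : Coh.IsCoh G)
    (hr : ∀ x : X, Nontrivial (F.presheaf.stalk x) → δ x ≤ r)
    (hs : ∀ x : X, Nontrivial (G.presheaf.stalk x) → δ x ≤ s)
    (hrs : ∀ x : X, Nontrivial (F.presheaf.stalk x) → Nontrivial (G.presheaf.stalk x) →
      δ x ≤ r + s - n) (ζ : X) :
    IntMult.interProd δ n (Cyc.sheafFun δ r F) (Cyc.sheafFun δ s G) ζ =
      if δ ζ = r + s - n then
        IntMult.chi ↑(X.presheaf.stalk ζ) ↑(F.presheaf.stalk ζ) ↑(G.presheaf.stalk ζ) else 0 := by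
  have hset := SetupField.isSetup_of_field f hδ
  have hNoe : IsLocallyNoetherian X := hset.1
  have hdim := hset.2.2
  have := StalkLoc.finite_stalk F hF ζ
  have := StalkLoc.finite_stalk G hG ζ
  split_ifs with hζ
  · refine ChiPoints.interProd_eq_chi f hδ hn ζ hζ _ _ ?_ ?_ ?_ _ _ ?_ ?_ ?_ ?_
    · intro q hq
      exact hr _ ((mem_support_iff F hF.1 q).1 hq)
    · intro q hq
      exact hs _ ((mem_support_iff G hG.1 q).1 hq)
    · intro q hq hq'
      have h1 := hrs _ ((mem_support_iff F hF.1 q).1 hq) ((mem_support_iff G hG.1 q).1 hq')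
      exact eq_of_specializes_of_eq hdim (ptOf_specializes q)
        (le_antisymm (le_of_specializes hdim (ptOf_specializes q)) (by omega))
    · intro ξ h hξ
      rw [ll_stalk F hF.1, Cyc.sheafFun, if_pos hξ]
    · intro ξ _ hξ
      rw [Cyc.sheafFun, if_neg hξ]
    · intro ξ h hξ
      rw [ll_stalk G hG.1, Cyc.sheafFun, if_pos hξ]
    · intro ξ _ hξ
      rw [Cyc.sheafFun, if_neg hξ]
  · by_contra hne
    obtain ⟨ξ, η, h1, h2, h3, h4, h5⟩ := MovRatZ.interProd_ne_zero δ n hne
    rw [(nontrivial_of_sheafFun_ne_zero h1).1, (nontrivial_of_sheafFun_ne_zero h2).1] at h5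
    exact hζ h5.symm

end K303.SheafChi
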