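import Groth.Agent.RegImm.K560.CMQuot
import Groth.Agent.Sga3C.QSliceAlg

/-!
# Quotients of Cohen-Macaulay local rings by regular sequences are Cohen-Macaulay
-/

set_option autoImplicit false
universe u

open IsLocalRing RingTheory.Sequence

namespace K303.CMQuotList

/-- A quotient of a Cohen-Macaulay local ring by a regular sequence is Cohen-Macaulay. -/
theorem isCM_quotient_ofList {B : Type u} [CommRing B] [hB : LocCoh.IsCohenMacaulayLocalRing B]
    (rs : List B) (hreg : IsRegular B rs) :
    LocCoh.IsCohenMacaulayLocalRing (B ⧸ Ideal.ofList rs) := by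
  have hnt : Nontrivial (B ⧸ Ideal.ofList rs) := by
    apply Ideal.Quotient.nontrivial_iff.mpr
    intro h'
    apply hreg.2
    rw [h']
    simp
  have : IsLocalRing (B ⧸ Ideal.ofList rs) :=
    IsLocalRing.of_surjective' (Ideal.Quotient.mk (Ideal.ofList rs)) Ideal.Quotient.mk_surjective
  refine { supportDim_eq_depth := ?_ }
  rw [Module.supportDim_self_eq_ringKrullDim,
    ← Groth.Agent.Sga3C.QSliceAlg.depth_of_surjective (R := B) (S := B ⧸ Ideal.ofList rs)
      Ideal.Quotient.mk_surjective]
  exact K560.CMQuot.ringKrullDim_quotient_eq_depth hreg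

end K303.CMQuotList
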