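import Groth.Agent.CycA.TorFin
import Groth.Agent.CycA.IntCore
import Mathlib.RingTheory.LocalRing.Length

/-!
# The Euler characteristic of Tor under flat local base change
-/

set_option autoImplicit false

universe u

open TensorProduct

namespace K303.ChiFlat

open Groth.Agent.CycA

variable (A B : Type u) [CommRing A] [CommRing B] [IsLocalRing A] [IsLocalRing B] [Algebra A B]
  [IsLocalHom (algebraMap A B)] [Module.Flat A B]

/-- `χ_B(B ⊗ M, B ⊗ N) = χ_A(M, N) · length(B/m_A B)` for `A → B` a flat local homomorphism. -/
theorem chi_baseChange (M N : Type u) [AddCommGroup M] [Module A M] [AddCommGroup N] [Module A N] :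
    IntMult.chi B (B ⊗[A] M) (B ⊗[A] N) = IntMult.chi A M N *
      ((Module.length B (B ⧸ (IsLocalRing.maximalIdeal A).map (algebraMap A B))).toNat : ℤ) := by
  unfold IntMult.chi
  rw [finsum_mul]
  refine finsum_congr fun i => ?_
  obtain ⟨e⟩ := TorFin.baseChange (A := A) (B := B) i M N
  rw [e.length_eq, IsLocalRing.length_baseChange, ENat.toNat_mul, Nat.cast_mul, mul_assoc]

end K303.ChiFlat
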