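import Groth.Agent.CycA.SerreGeom
import Groth.Agent.CycA.Devissage

/-!
# The intersection product at a point as an Euler characteristic of Tor

`interProd_eq_chi`: `A = O_{X,x}`, `M`, `N` finite `A`-modules with supports of dimension at most `r`, `s`
meeting only at `x` with `δ x = r + s - n`; if the functions `a`, `b` on `X` give the multiplicities of `M`, `N`
at the generizations of `x` of dimension `r`, `s`, then `(a · b)(x) = χ(M, N)`.
-/

set_option autoImplicit false

universe u

open CategoryTheory AlgebraicGeometry CategoryTheory.Limits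

namespace K303.ChiPoints

open Groth.Agent Groth.Agent.CycA Groth.Agent.CycB Groth.Agent.CycB.LocQuot
  Groth.Agent.CycA.Devissage Groth.Agent.CycA.ChiRec

variable {K : Type u} [Field K] [IsAlgClosed K] {X : Scheme.{u}}

section Alg

variable {A : Type u} [CommRing A] [IsNoetherianRing A]

/-- Points of the support of a finite module which are minimal in the support: finitely many. -/
theorem finite_of_minimal (M : Type u) [AddCommGroup M] [Module A M] [Module.Finite A M]
    (S : Set (PrimeSpectrum A)) (hS : S ⊆ Module.support A M)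
    (hmin : ∀ p ∈ S, ∀ q ∈ Module.support A M, q ≤ p → q = p) : S.Finite := by
  have h1 : (Module.annihilator A M).minimalPrimes.Finite :=
    Ideal.finite_minimalPrimes_of_isNoetherianRing A _
  refine Set.Finite.of_finite_image (f := PrimeSpectrum.asIdeal) (h1.subset ?_)
    (fun p _ q _ h => PrimeSpectrum.ext h)
  rintro _ ⟨p, hp, rfl⟩
  have hp1 := hS hp
  rw [Module.support_eq_zeroLocus, PrimeSpectrum.mem_zeroLocus, SetLike.coe_subset_coe] at hp1
  refine ⟨⟨p.2, hp1⟩, ?_⟩
  rintro Q ⟨hQ, hIQ⟩ hQp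
  have hQs : (⟨Q, hQ⟩ : PrimeSpectrum A) ∈ Module.support A M := by
    rw [Module.support_eq_zeroLocus, PrimeSpectrum.mem_zeroLocus, SetLike.coe_subset_coe]
    exact hIQ
  have := hmin p hp ⟨Q, hQ⟩ hQs hQp
  rw [← this]

end Alg

theorem asIdeal_eq {x : X} (q : PrimeSpectrum (X.presheaf.stalk x)) :
    q.asIdeal = RingHom.ker (Cyc.specMap x (ptOf q) (ptOf_specializes q)) := by
  rw [← primeOf_asIdeal, primeOf_ptOf]

theorem asIdeal_eq_maximalIdeal {x : X} (q : PrimeSpectrum (X.presheaf.stalk x)) (h : ptOf q = x) :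
    q.asIdeal = IsLocalRing.maximalIdeal (X.presheaf.stalk x) := by
  have h5 : ∀ (T : X) (hT : T ⤳ x), T = x →
      RingHom.ker (Cyc.specMap x T hT) = IsLocalRing.maximalIdeal _ := by
    rintro T hT rfl
    exact ker_refl _
  rw [asIdeal_eq q, h5 _ _ h]

/-- **The intersection product at a point as an Euler characteristic of Tor.** -/
theorem interProd_eq_chi [IsIntegral X] (f : X ⟶ Spec (CommRingCat.of K)) [Smooth f]
    [IsSeparated f] {δ : X → ℤ} (hδ : Cyc.DeltaCompat f δ (fun _ => 0)) {n r s : ℤ}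
    (hn : δ (genericPoint X) = n) (x : X) (hx : δ x = r + s - n)
    (M N : Type u) [AddCommGroup M] [Module (X.presheaf.stalk x) M]
    [Module.Finite (X.presheaf.stalk x) M] [AddCommGroup N] [Module (X.presheaf.stalk x) N]
    [Module.Finite (X.presheaf.stalk x) N]
    (hM : ∀ q ∈ Module.support (X.presheaf.stalk x) M, δ (ptOf q) ≤ r)
    (hN : ∀ q ∈ Module.support (X.presheaf.stalk x) N, δ (ptOf q) ≤ s)
    (hMN : ∀ q ∈ Module.support (X.presheaf.stalk x) M, q ∈ Module.support (X.presheaf.stalk x) N →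
      ptOf q = x)
    (a b : X → ℤ)
    (ha : ∀ (ξ : X) (h : ξ ⤳ x), δ ξ = r → a ξ = ll (primeOf h) M)
    (ha' : ∀ ξ : X, ξ ⤳ x → δ ξ ≠ r → a ξ = 0)
    (hb : ∀ (ξ : X) (h : ξ ⤳ x), δ ξ = s → b ξ = ll (primeOf h) N)
    (hb' : ∀ ξ : X, ξ ⤳ x → δ ξ ≠ s → b ξ = 0) :
    IntMult.interProd δ n a b x = IntMult.chi (X.presheaf.stalk x) M N := by
  classical
  have hset := SetupField.isSetup_of_field f hδ
  have hNoe : IsLocallyNoetherian X := hset.1
  have hdim := hset.2.2
  have hreg : IsRegularLocalRing (X.presheaf.stalk x) := SerreGeom.isRegularLocalRing_stalk f x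
  let A := X.presheaf.stalk x
  -- minimality
  have hminl : ∀ (r : ℤ) (M : Type u) [AddCommGroup M] [Module A M]
      (_ : ∀ q ∈ Module.support A M, δ (ptOf q) ≤ r) (p q : PrimeSpectrum A), δ (ptOf p) = r →
      q ∈ Module.support A M → q ≤ p → q = p := by
    intro r M _ _ hM p q hp hq hle
    have h1 := (ptOf_specializes_iff q p).2 hle
    have h2 := hM _ hq
    have h3 := le_of_specializes hdim h1
    exact ptOf_injective x (eq_of_specializes_of_eq hdim h1 (by omega))
  have hfin : ∀ (r : ℤ) (M : Type u) [AddCommGroup M] [Module A M] [Module.Finite A M]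
      (_ : ∀ q ∈ Module.support A M, δ (ptOf q) ≤ r),
      {p : PrimeSpectrum A | p ∈ Module.support A M ∧ δ (ptOf p) = r}.Finite := by
    intro r M _ _ _ hM
    exact finite_of_minimal M _ (fun p hp => hp.1) fun p hp q hq hle => hminl r M hM p q hp.2 hq hle
  let S : Finset (PrimeSpectrum A) := (hfin r M hM).toFinset
  let T : Finset (PrimeSpectrum A) := (hfin s N hN).toFinset
  have hSmem : ∀ p, p ∈ S ↔ p ∈ Module.support A M ∧ δ (ptOf p) = r := fun p => by simp [S]
  have hTmem : ∀ p, p ∈ T ↔ p ∈ Module.support A N ∧ δ (ptOf p) = s := fun p => by simp [T]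
  -- vanishing for pairs of points
  have hvan : ∀ p ∈ Module.support A M, ∀ q ∈ Module.support A N,
      δ (ptOf p) + δ (ptOf q) < r + s → IntMult.chi A (A ⧸ q.asIdeal) (A ⧸ p.asIdeal) = 0 := by
    intro p hp q hq hlt
    have h1 : ∀ (M : Type u) [AddCommGroup M] [Module A M] (p : PrimeSpectrum A),
        p ∈ Module.support A M → ∀ z : X, (hz : z ⤳ x) → ptOf p ⤳ z →
          primeOf hz ∈ Module.support A M := by
      intro M _ _ p hp z hz hpz
      have h2 : p ≤ primeOf hz := by
        rw [← primeOf_ptOf p, primeOf_le_iff]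
        exact hpz
      exact Module.mem_support_mono h2 hp
    have h3 := (SerreGeom.chi_main f hδ (ptOf_specializes q) (ptOf_specializes p)
      (fun z h4 h5 h6 => by
        have := hMN (primeOf h6) (h1 M p hp z h6 h5) (h1 N q hq z h6 h4)
        rwa [ptOf_primeOf] at this)).2.2.1 (by omega)
    rw [asIdeal_eq p, asIdeal_eq q]
    exact h3
  obtain ⟨d, hd⟩ := Groth.Agent.CalgA.RegBasic.ringKrullDim_eq_natCast A
  have hmeets : ∀ p ∈ Module.support A M, Meets A N (A ⧸ p.asIdeal) := by
    intro p hp q h1 h2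
    have h3 : q ∈ Module.support A M := by
      rw [Module.support_eq_zeroLocus, Ideal.annihilator_quotient] at h2
      exact Module.mem_support_mono (show p ≤ q from h2) hp
    rw [asIdeal_eq_maximalIdeal q (hMN q h3 h1)]
    exact IsLocalRing.maximalIdeal.isMaximal _
  -- devissage in the second variable
  have key2 : ∀ p ∈ Module.support A M, IntMult.chi A (A ⧸ p.asIdeal) N =
      ∑ q ∈ T, ll q N * IntMult.chi A (A ⧸ q.asIdeal) (A ⧸ p.asIdeal) := by
    intro p hp
    rw [IntCore.chi_comm]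
    refine chi_devissage (A := A) (A ⧸ p.asIdeal) d
      (fun M' _ _ _ i hi => TorReg.vanish_of_finite_left d hd _ _ i hi) N (hmeets p hp) T
      (fun p hp q hq hle => hminl s N hN p q ((hTmem p).1 hp).2 hq hle) ?_
    intro q hq hqT
    have h2 : δ (ptOf q) < s := lt_of_le_of_ne (hN _ hq) fun h0 => hqT ((hTmem q).2 ⟨hq, h0⟩)
    have h3 := hM p hp
    exact hvan p hp q hq (by omega)
  have hmeets' : Meets A M N := by
    intro q h1 h2
    rw [asIdeal_eq_maximalIdeal q (hMN q h1 h2)]
    exact IsLocalRing.maximalIdeal.isMaximal _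
  have key := chi_devissage (A := A) N d
    (fun M' _ _ _ i hi => TorReg.vanish_of_finite_left d hd _ _ i hi) M hmeets' S
    (fun p hp q hq hle => hminl r M hM p q ((hSmem p).1 hp).2 hq hle) (by
      intro p hp hpS
      rw [key2 p hp]
      refine Finset.sum_eq_zero fun q hq => ?_
      have h2 : δ (ptOf p) < r := lt_of_le_of_ne (hM _ hp) fun h0 => hpS ((hSmem p).2 ⟨hp, h0⟩)
      rw [hvan p hp q ((hTmem q).1 hq).1 (by have := ((hTmem q).1 hq).2; omega), mul_zero])
  change _ = IntMult.chi A M N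
  rw [key]
  have key3 : ∑ p ∈ S, ll p M * IntMult.chi A (A ⧸ p.asIdeal) N =
      ∑ z ∈ S ×ˢ T, ll z.1 M * (ll z.2 N * IntMult.chi A (A ⧸ z.2.asIdeal) (A ⧸ z.1.asIdeal)) := by
    rw [Finset.sum_product]
    refine Finset.sum_congr rfl fun p hp => ?_
    rw [key2 p ((hSmem p).1 hp).1, Finset.mul_sum]
  rw [key3]
  -- the finite sum
  unfold IntMult.interProd
  let φ : {z : PrimeSpectrum A × PrimeSpectrum A // z ∈ S ×ˢ T} →
      {p : X × X // p.1 ⤳ x ∧ p.2 ⤳ x ∧ δ p.1 + δ p.2 - n = δ x} := fun z =>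
    ⟨(ptOf z.1.1, ptOf z.1.2), ptOf_specializes z.1.1, ptOf_specializes z.1.2, by
      change δ (ptOf z.1.1) + δ (ptOf z.1.2) - n = δ x
      have h := Finset.mem_product.1 z.2
      rw [((hSmem _).1 h.1).2, ((hTmem _).1 h.2).2, hx]⟩
  have hφ : Function.Injective φ := by
    intro p q h
    have h1 : ptOf p.1.1 = ptOf q.1.1 := congrArg (fun z => z.1.1) h
    have h2 : ptOf p.1.2 = ptOf q.1.2 := congrArg (fun z => z.1.2) h
    exact Subtype.ext (Prod.ext (ptOf_injective x h1) (ptOf_injective x h2))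
  rw [finsum_eq_sum_of_support_subset (s := (S ×ˢ T).attach.image φ)]
  · rw [Finset.sum_image (fun p _ q _ h => hφ h), ← Finset.sum_attach (S ×ˢ T)]
    refine Finset.sum_congr rfl fun z _ => ?_
    have hz := Finset.mem_product.1 z.2
    change a (ptOf z.1.1) * b (ptOf z.1.2) *
      IntMult.mult (IntMult.ptIdeal (ptOf z.1.1)) (IntMult.ptIdeal (ptOf z.1.2)) x = _
    rw [ha _ (ptOf_specializes z.1.1) ((hSmem _).1 hz.1).2,
      hb _ (ptOf_specializes z.1.2) ((hTmem _).1 hz.2).2, primeOf_ptOf, primeOf_ptOf, mul_assoc,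
      IntMult.mult, StalkIdeal.stalkIdeal_ptIdeal (ptOf_specializes z.1.1),
      StalkIdeal.stalkIdeal_ptIdeal (ptOf_specializes z.1.2), ← asIdeal_eq, ← asIdeal_eq]
  · intro p hp
    rw [Function.mem_support] at hp
    have h1 : a p.1.1 ≠ 0 := left_ne_zero_of_mul (left_ne_zero_of_mul hp)
    have h2 : b p.1.2 ≠ 0 := right_ne_zero_of_mul (left_ne_zero_of_mul hp)
    have h3 : δ p.1.1 = r := by
      by_contra hne
      exact h1 (ha' _ p.2.1 hne)
    have h4 : δ p.1.2 = s := by
      by_contra hne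
      exact h2 (hb' _ p.2.2.1 hne)
    have h5 : primeOf p.2.1 ∈ Module.support A M := by
      by_contra hne
      apply h1
      rw [ha _ p.2.1 h3, ll_eq_zero hne]
    have h6 : primeOf p.2.2.1 ∈ Module.support A N := by
      by_contra hne
      apply h2
      rw [hb _ p.2.2.1 h4, ll_eq_zero hne]
    rw [Finset.coe_image]
    have h7 : (primeOf p.2.1, primeOf p.2.2.1) ∈ S ×ˢ T := by
      rw [Finset.mem_product, hSmem, hTmem, ptOf_primeOf, ptOf_primeOf]
      exact ⟨⟨h5, h3⟩, h6, h4⟩
    refine ⟨⟨_, h7⟩, Finset.mem_coe.2 (Finset.mem_attach _ _), ?_⟩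
    apply Subtype.ext
    change (ptOf (primeOf p.2.1), ptOf (primeOf p.2.2.1)) = p.1
    rw [ptOf_primeOf, ptOf_primeOf]

end K303.ChiPoints
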