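import Groth.Agent.CycA.SerreGeom
import Groth.Agent.CycA.MovCycLoc
import Groth.Agent.CycA.MovGeo
import Groth.Agent.CycA.MovZ
import Groth.Agent.CycA.IntCore2
import Groth.Agent.CycB.SetupLft

/-!
# The cone over a subvariety

Let `X ⊆ P` be a closed subvariety, `U` a neighbourhood of `X` in `P` and `q : U ⟶ Z` with
`dim Z = dim X` and `q` finite on `X`.  For a point `ξ` of `X` at which `X ⟶ Z` is unramified the
closure `C` of a component of the fibre of `q` over `q ξ` meets `X` properly, and the multiplicity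
of `ξ` in `C · X` is `1`.
-/

set_option autoImplicit false
universe u
open CategoryTheory CategoryTheory.Limits AlgebraicGeometry IsLocalRing

namespace K303.ConeCore

open Groth.Agent Groth.Agent.CycA Groth.Agent.CycB Groth.Agent.CycB.LocQuot

section alg

/-- A minimal prime over `m_A B`, `A` regular local, has height at most `dim A`. -/
theorem height_le {A B : Type u} [CommRing A] [IsRegularLocalRing A] [CommRing B]
    [IsNoetherianRing B] (φ : A →+* B) (d : ℕ) (hd : ringKrullDim A = d) (p : Ideal B)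
    (hp : p ∈ ((maximalIdeal A).map φ).minimalPrimes) : p.height ≤ d := by
  obtain ⟨rs, hlen, hspan, -⟩ := TorReg.exists_regular_list (A := A) d hd
  classical
  have h1 : (maximalIdeal A).map φ = Ideal.span ((rs.map φ).toFinset : Set B) := by
    rw [← hspan, Ideal.ofList, Ideal.map_span]
    congr 1
    ext x
    simp
  rw [h1] at hp
  refine (Ideal.height_le_card_of_mem_minimalPrimes_span_finset hp).trans ?_
  have h2 := (rs.map φ).toFinset_card_le
  rw [List.length_map, hlen] at h2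
  exact_mod_cast h2

/-- The height of the prime of a generization. -/
theorem height_ker {X : Scheme.{u}} {x ξ : X} (h : ξ ⤳ x) :
    ringKrullDim (X.presheaf.stalk ξ) = (RingHom.ker (Cyc.specMap x ξ h)).height := by
  let := (X.presheaf.stalkSpecializes h).hom.toAlgebra
  have := isLocalization_stalkSpecializes h
  exact IsLocalization.AtPrime.ringKrullDim_eq_height (RingHom.ker (Cyc.specMap x ξ h)) _

theorem ker_specMap_genericPoint {X : Scheme.{u}} [IsIntegral X] (ξ : X)
    (h : genericPoint X ⤳ ξ) : RingHom.ker (Cyc.specMap ξ (genericPoint X) h) = ⊥ := by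
  obtain ⟨z, hz, e⟩ := exists_eq_ker (⊥ : Ideal (X.presheaf.stalk ξ))
  rw [eq_bot_iff, e, ker_le_iff]
  exact genericPoint_specializes z

end alg

variable {K : Type u} [Field K] [IsAlgClosed K] {P X U Z : Scheme.{u}}

theorem core (pP : P ⟶ Spec (CommRingCat.of K)) [Smooth pP] [IsSeparated pP] [IsIntegral P]
    {δP : P → ℤ} (hδP : Cyc.DeltaCompat pP δP (fun _ => 0))
    (o : U ⟶ P) [IsOpenImmersion o] (j : X ⟶ U) [IsClosedImmersion (j ≫ o)] [IsIntegral X]
    (q : U ⟶ Z) (gZ : Z ⟶ Spec (CommRingCat.of K)) (hq : q ≫ gZ = o ≫ pP) [Smooth gZ]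
    [IsSeparated gZ] [IsIntegral Z] {δZ : Z → ℤ} (hδZ : Cyc.DeltaCompat gZ δZ (fun _ => 0))
    [IsFinite (j ≫ q)] (hdim : δZ (genericPoint Z) = δP ((j ≫ o) (genericPoint X)))
    (ξ : X) (hunr : (maximalIdeal (Z.presheaf.stalk ((j ≫ q) ξ))).map ((j ≫ q).stalkMap ξ).hom =
      maximalIdeal (X.presheaf.stalk ξ)) :
    ∃ c : P, c ⤳ (j ≫ o) ξ ∧
      δP c = δP ((j ≫ o) ξ) + δP (genericPoint P) - δP ((j ≫ o) (genericPoint X)) ∧
      (∀ x : X, c ⤳ (j ≫ o) x → (j ≫ q) ξ ⤳ (j ≫ q) x) ∧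
      (∀ x : X, δZ ((j ≫ q) x) = δP ((j ≫ o) x)) ∧
      IntMult.mult (IntMult.ptIdeal c) (IntMult.ptIdeal ((j ≫ o) (genericPoint X)))
        ((j ≫ o) ξ) = 1 := by
  have hsetP := SetupField.isSetup_of_field pP hδP
  have hsetZ := SetupField.isSetup_of_field gZ hδZ
  have hNP : IsLocallyNoetherian P := hsetP.1
  have hNZ : IsLocallyNoetherian Z := hsetZ.1
  have hNU : IsLocallyNoetherian U := isLocallyNoetherian_of_isOpenImmersion o
  have hdP := hsetP.2.2
  have hdZ := hsetZ.2.2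
  -- dimension function on `X`
  obtain ⟨δX, hδX⟩ := SetupLft.exists_deltaCompat ((j ≫ o) ≫ pP) (fun _ => 0)
  have e1 : ∀ x, δP ((j ≫ o) x) = δX x := MovZ.delta_eq (j ≫ o) pP _ rfl hδX hδP
  have e2 : ∀ x, δZ ((j ≫ q) x) = δX x := MovZ.delta_eq (j ≫ q) gZ _ (by
    rw [Category.assoc, hq, Category.assoc]) hδX hδZ
  have hdX := (SetupField.isSetup_of_field _ hδX).2.2
  have hregZ : IsRegularLocalRing (Z.presheaf.stalk (q (j ξ))) :=
    SerreGeom.isRegularLocalRing_stalk gZ _
  have hregP : IsRegularLocalRing (P.presheaf.stalk (o (j ξ))) :=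
    SerreGeom.isRegularLocalRing_stalk pP _
  have hNoU : IsNoetherianRing (U.presheaf.stalk (j ξ)) := inferInstance
  -- the prime
  let I : Ideal (U.presheaf.stalk (j ξ)) :=
    (maximalIdeal (Z.presheaf.stalk (q (j ξ)))).map (q.stalkMap (j ξ)).hom
  have hIm : I ≤ maximalIdeal (U.presheaf.stalk (j ξ)) := by
    rw [Ideal.map_le_iff_le_comap]
    intro a ha
    rw [Ideal.mem_comap, IsLocalRing.mem_maximalIdeal, mem_nonunits_iff, isUnit_map_iff]
    exact ha
  obtain ⟨𝔠, h𝔠, -⟩ := Ideal.exists_minimalPrimes_le hIm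
  have h𝔠p : 𝔠.IsPrime := h𝔠.1.1
  obtain ⟨c, hc, h𝔠c⟩ := exists_eq_ker 𝔠
  have hqc : q c = q (j ξ) := by
    rw [← MovCycLoc.map_maximalIdeal_le_iff q hc, ← h𝔠c]
    exact h𝔠.1.2
  -- lower bound for the dimension of `c`
  have hlow : δP (genericPoint P) - δP (o c) ≤ δP ((j ≫ o) (genericPoint X)) - δP (o (j ξ)) := by
    obtain ⟨h1, h1'⟩ := MovGeo.ringKrullDim_stalk hdP rfl (o c)
    obtain ⟨h2, h2'⟩ := MovGeo.ringKrullDim_stalk hdZ rfl (q (j ξ))
    have h3 := height_le (q.stalkMap (j ξ)).hom _ h2 𝔠 h𝔠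
    have h4 : ringKrullDim (U.presheaf.stalk c) = ringKrullDim (P.presheaf.stalk (o c)) :=
      (ringKrullDim_eq_of_ringEquiv (asIso (o.stalkMap c)).commRingCatIsoToRingEquiv).symm
    rw [height_ker hc, ← h𝔠c, h1] at h4
    have h5 : 𝔠.height = ((δP (genericPoint P) - δP (o c)).toNat : ℕ) := by exact_mod_cast h4
    rw [h5] at h3
    have h6 : (δP (genericPoint P) - δP (o c)).toNat ≤
        (δZ (genericPoint Z) - δZ (q (j ξ))).toNat := by exact_mod_cast h3
    have h7 : δZ (q (j ξ)) = δX ξ := e2 ξ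
    have h8 : δP (o (j ξ)) = δX ξ := e1 ξ
    rw [← hdim]
    omega
  have hcx : o c ⤳ (j ≫ o) ξ := hc.map o.continuous
  have hspec : ∀ x : X, o c ⤳ (j ≫ o) x → (j ≫ q) ξ ⤳ (j ≫ q) x := by
    intro x hx
    have h1 : c ⤳ j x := o.isOpenEmbedding.isInducing.specializes_iff.1 hx
    have h2 := h1.map q.continuous
    rw [hqc] at h2
    exact h2
  -- points of the intersection
  have hpt : ∀ z : P, o c ⤳ z → (j ≫ o) (genericPoint X) ⤳ z →
      ∃ x : X, (j ≫ o) x = z ∧ (j ≫ q) ξ ⤳ (j ≫ q) x := by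
    intro z h1 h2
    have h3 : z ∈ Set.range (j ≫ o) := h2.mem_closed (j ≫ o).isClosedEmbedding.isClosed_range
      ⟨_, rfl⟩
    obtain ⟨x, rfl⟩ := h3
    exact ⟨x, rfl, hspec x h1⟩
  have hmax : ∀ z, o c ⤳ z → (j ≫ o) (genericPoint X) ⤳ z → z ⤳ (j ≫ o) ξ → z = (j ≫ o) ξ := by
    intro z h1 h2 h3
    obtain ⟨x, rfl, hx⟩ := hpt z h1 h2
    have h4 : x ⤳ ξ := (j ≫ o).isClosedEmbedding.isInducing.specializes_iff.1 h3
    have h5 := le_of_specializes hdX h4
    have h6 := le_of_specializes hdZ hx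
    rw [e2, e2] at h6
    rw [eq_of_specializes_of_eq hdX h4 (by omega)]
  have hgx : (j ≫ o) (genericPoint X) ⤳ (j ≫ o) ξ :=
    (genericPoint_specializes ξ).map (j ≫ o).continuous
  have hup := (SerreGeom.chi_main pP hδP hcx hgx hmax).1
  have hδc : δP (o c) = δP ((j ≫ o) ξ) + δP (genericPoint P) -
      δP ((j ≫ o) (genericPoint X)) := by
    have h1 : δP ((j ≫ o) ξ) = δP (o (j ξ)) := rfl
    omega
  refine ⟨o c, hcx, hδc, hspec, fun x => (e2 x).trans (e1 x).symm, ?_⟩
  -- the multiplicity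
  rw [IntMult.mult, StalkIdeal.stalkIdeal_ptIdeal hcx, StalkIdeal.stalkIdeal_ptIdeal hgx]
  have hj : IsClosedImmersion j := IsClosedImmersion.of_comp j o
  have hsurj : Function.Surjective (j.stalkMap ξ).hom := j.stalkMap_surjective ξ
  have hker : RingHom.ker (Cyc.specMap (j ξ)
      (j (genericPoint X)) ((genericPoint_specializes ξ).map j.continuous)) =
      Ideal.comap (j.stalkMap ξ).hom ⊥ := by
    rw [← MovCycLoc.comap_ker_specMap j (genericPoint_specializes ξ), ker_specMap_genericPoint]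
  have hcomp : (RingHom.ker (Cyc.specMap (j ξ) c hc)) ⊔ (RingHom.ker (Cyc.specMap (j ξ)
      (j (genericPoint X)) ((genericPoint_specializes ξ).map j.continuous))) =
      maximalIdeal (U.presheaf.stalk (j ξ)) := by
    refine le_antisymm (sup_le (IsLocalRing.le_maximalIdeal (RingHom.ker_ne_top _))
      (IsLocalRing.le_maximalIdeal (RingHom.ker_ne_top _))) ?_
    have h1 : maximalIdeal (U.presheaf.stalk (j ξ)) ≤ I ⊔ Ideal.comap (j.stalkMap ξ).hom ⊥ := by
      rw [← Ideal.comap_map_of_surjective _ hsurj, Ideal.map_map, ← CommRingCat.hom_comp,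
        ← Scheme.Hom.stalkMap_comp]
      intro a ha
      rw [Ideal.mem_comap]
      have h2 : (j.stalkMap ξ).hom a ∈ maximalIdeal (X.presheaf.stalk ξ) := by
        rw [IsLocalRing.mem_maximalIdeal, mem_nonunits_iff, isUnit_map_iff]
        exact ha
      rw [← hunr] at h2
      exact h2
    rw [hker]
    refine h1.trans (sup_le_sup_right ?_ _)
    rw [← h𝔠c]
    exact h𝔠.1.2
  have hbij : Function.Bijective (o.stalkMap (j ξ)).hom :=
    ConcreteCategory.bijective_of_isIso (o.stalkMap (j ξ))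
  have hsup : RingHom.ker (Cyc.specMap (o (j ξ)) (o c) (hc.map o.continuous)) ⊔
      RingHom.ker (Cyc.specMap (o (j ξ)) (o (j (genericPoint X)))
        (((genericPoint_specializes ξ).map j.continuous).map o.continuous)) =
      maximalIdeal (P.presheaf.stalk (o (j ξ))) := by
    rw [← Ideal.comap_map_of_bijective _ hbij (I := RingHom.ker (Cyc.specMap (o (j ξ)) (o c)
      (hc.map o.continuous)) ⊔ RingHom.ker (Cyc.specMap (o (j ξ)) (o (j (genericPoint X)))
        (((genericPoint_specializes ξ).map j.continuous).map o.continuous))), Ideal.map_sup,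
      ← MovCycLoc.comap_ker_specMap o hc,
      ← MovCycLoc.comap_ker_specMap o ((genericPoint_specializes ξ).map j.continuous),
      Ideal.map_comap_of_surjective _ hbij.2, Ideal.map_comap_of_surjective _ hbij.2, hcomp]
    ext a
    rw [Ideal.mem_comap, IsLocalRing.mem_maximalIdeal, IsLocalRing.mem_maximalIdeal,
      mem_nonunits_iff, mem_nonunits_iff, isUnit_map_iff]
  have hsup' : RingHom.ker (Cyc.specMap ((j ≫ o) ξ) (o c) hcx) ⊔
      RingHom.ker (Cyc.specMap ((j ≫ o) ξ) ((j ≫ o) (genericPoint X)) hgx) =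
      maximalIdeal (P.presheaf.stalk ((j ≫ o) ξ)) := hsup
  have hregP' : IsRegularLocalRing (P.presheaf.stalk ((j ≫ o) ξ)) := hregP
  refine (IntCore2.multiplicity_one (A := P.presheaf.stalk ((j ≫ o) ξ)) _ _ ?_ ?_ ?_ ?_).1
  · have h1 : (RingHom.ker (Cyc.specMap ((j ≫ o) ξ) (o c) hcx) ⊔
      RingHom.ker (Cyc.specMap ((j ≫ o) ξ) ((j ≫ o) (genericPoint X)) hgx)).IsMaximal := by
      rw [hsup']
      infer_instance
    have : IsSimpleModule (P.presheaf.stalk ((j ≫ o) ξ)) (P.presheaf.stalk ((j ≫ o) ξ) ⧸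
        (RingHom.ker (Cyc.specMap ((j ≫ o) ξ) (o c) hcx) ⊔
          RingHom.ker (Cyc.specMap ((j ≫ o) ξ) ((j ≫ o) (genericPoint X)) hgx))) :=
      isSimpleModule_iff_isCoatom.2 h1.out
    exact Module.length_eq_one _ _
  · exact RingHom.ker_ne_top _
  · exact RingHom.ker_ne_top _
  · have h1 := ringKrullDim_locQuot hdP hcx
    have h2 := ringKrullDim_locQuot hdP hgx
    obtain ⟨h3, h3'⟩ := MovGeo.ringKrullDim_stalk hdP rfl ((j ≫ o) ξ)
    have h4 := le_of_specializes hdP hcx
    have h5 := le_of_specializes hdP hgx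
    rw [h3]
    refine le_trans ?_ (add_le_add h1.ge h2.ge)
    have h7 : (δP (genericPoint P) - δP ((j ≫ o) ξ)).toNat ≤
        (δP (o c) - δP ((j ≫ o) ξ)).toNat +
          (δP ((j ≫ o) (genericPoint X)) - δP ((j ≫ o) ξ)).toNat := by
      omega
    exact_mod_cast h7

end K303.ConeCore
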