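import Groth.Agent.CycA.IntLocal
import Groth.Agent.CycA.MovZ

/-!
# Krull dimensions of closed subsets and dimension functions

A dimension function on a scheme of finite type over a field computes the Krull dimension of the
closed subsets; comparison of the dimensions of two closed subsets.
-/

set_option autoImplicit false
universe u
open CategoryTheory CategoryTheory.Limits AlgebraicGeometry TopologicalSpace

namespace K303.ConeDim

open Groth.Agent Groth.Agent.CycA Groth.Agent.CycB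

theorem dim_le {P : Scheme.{u}} {δ : P → ℤ} (hδ : Cyc.IsDimFun P δ) (h0 : ∀ x, 0 ≤ δ x)
    {W : Set P} (hW : IsClosed W) (k : ℕ) (hk : ∀ w ∈ W, δ w ≤ k) :
    topologicalKrullDim ↥W ≤ k := by
  have hg : ∀ Z : IrreducibleCloseds ↥W, ∃ z : P,
      closure {z} = Subtype.val '' (Z : Set ↥W) := by
    intro Z
    have h1 : IsIrreducible ((Subtype.val : ↥W → P) '' (Z : Set ↥W)) :=
      Z.isIrreducible.image _ continuous_subtype_val.continuousOn
    have h2 : IsClosed ((Subtype.val : ↥W → P) '' (Z : Set ↥W)) :=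
      hW.isClosedEmbedding_subtypeVal.isClosedMap _ Z.isClosed
    exact ⟨_, h1.closure_genericPoint h2⟩
  choose z hz using hg
  have hzmem : ∀ Z : IrreducibleCloseds ↥W, z Z ∈ Subtype.val '' (Z : Set ↥W) := fun Z => by
    rw [← hz]
    exact subset_closure rfl
  have hmono : StrictMono fun Z => (δ (z Z)).toNat := by
    intro Z Z' hlt
    have h1 : Subtype.val '' (Z : Set ↥W) ⊆ Subtype.val '' (Z' : Set ↥W) :=
      Set.image_mono hlt.le
    have h2 : z Z' ⤳ z Z := by
      rw [specializes_iff_mem_closure, hz]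
      exact h1 (hzmem Z)
    have h3 : z Z' ≠ z Z := by
      intro h
      have h4 : Subtype.val '' (Z : Set ↥W) = Subtype.val '' (Z' : Set ↥W) := by
        rw [← hz, ← hz, h]
      exact hlt.ne (SetLike.coe_injective (Subtype.val_injective.image_injective h4))
    have h5 := (hδ _ _ h2 h3).1
    have h6 := h0 (z Z)
    change (δ (z Z)).toNat < (δ (z Z')).toNat
    omega
  refine iSup_le fun p => ?_
  have h1 := LTSeries.head_add_length_le_nat (p.map _ hmono)
  have h2 : (p.map _ hmono).last = (δ (z p.last)).toNat := rfl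
  have h3 : (p.map _ hmono).length = p.length := rfl
  obtain ⟨w, hw, hw'⟩ := hzmem p.last
  have h4 := hk _ w.2
  rw [hw'] at h4
  have h5 : p.length ≤ k := by omega
  exact_mod_cast h5

theorem le_dim {K : Type u} [Field K] {P : Scheme.{u}} (f : P ⟶ Spec (CommRingCat.of K))
    [LocallyOfFiniteType f] [IsIntegral P] {δ : P → ℤ}
    (hδ : Cyc.DeltaCompat f δ (fun _ => 0)) {W : Set P} (hW : IsClosed W) {w : P} (hw : w ∈ W)
    (k : ℕ) (hk : (k : ℤ) ≤ δ w) : (k : WithBot ℕ∞) ≤ topologicalKrullDim ↥W := by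
  refine le_trans ?_ (IntLocal.dim_closure_le hW hw)
  obtain ⟨a, t, n, -, h2, h3, -, -⟩ := IntLocal.exists_dims f w
  rw [h3]
  obtain ⟨b, hb, hb'⟩ := (RelDim.deltaCompat_iff.1 hδ) w
  have h4 : t = b := by exact_mod_cast h2.symm.trans hb
  have h5 : k ≤ t := by omega
  exact_mod_cast h5

theorem dim_of_isEmpty {X : Type*} [TopologicalSpace X] {W : Set X} (hW : ¬ W.Nonempty) :
    topologicalKrullDim ↥W = ⊥ := by
  have : IsEmpty ↥W := Set.isEmpty_coe_sort.2 (Set.not_nonempty_iff_eq_empty.1 hW)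
  have : IsEmpty (IrreducibleCloseds ↥W) := ⟨fun Z => by
    obtain ⟨x, -⟩ := Z.isIrreducible.nonempty
    exact IsEmpty.false x⟩
  exact Order.krullDim_eq_bot

/-- Comparison of the dimensions of two closed subsets. -/
theorem compare {K : Type u} [Field K] {P : Scheme.{u}} (f : P ⟶ Spec (CommRingCat.of K))
    [LocallyOfFiniteType f] [IsIntegral P] {δ : P → ℤ} (hd : Cyc.IsDimFun P δ)
    (hδ : Cyc.DeltaCompat f δ (fun _ => 0)) {W₁ W₂ : Set P} (hW₁ : IsClosed W₁)
    (hW₂ : IsClosed W₂) (n d d' : ℕ)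
    (H : ∀ w ∈ W₁, (∃ w' ∈ W₂, δ w < δ w') ∨ δ w ≤ (d : ℤ) + d' - n) :
    topologicalKrullDim ↥W₁ ≤ max (topologicalKrullDim ↥W₂)
        (if n ≤ d + d' then ((d + d' - n : ℕ) : WithBot ℕ∞) else ⊥) ∧
      (W₂.Nonempty → (n ≤ d + d' → ¬ topologicalKrullDim ↥W₂ ≤ ((d + d' - n : ℕ) : WithBot ℕ∞)) →
        topologicalKrullDim ↥W₁ < topologicalKrullDim ↥W₂) := by
  have h0 : ∀ x, 0 ≤ δ x := MovZ.delta_nonneg hδ
  by_cases hne : W₁.Nonempty
  · obtain ⟨k, ⟨w, hw, hwk⟩, hmax⟩ := Int.exists_greatest_of_bdd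
      (P := fun k => ∃ w ∈ W₁, δ w = k)
      ⟨δ (genericPoint P), by rintro _ ⟨w, -, rfl⟩; exact MovZ.delta_le hd w⟩
      (by obtain ⟨w, hw⟩ := hne; exact ⟨_, w, hw, rfl⟩)
    obtain ⟨a, rfl⟩ : ∃ a : ℕ, k = a := ⟨k.toNat, by have := h0 w; omega⟩
    have h1 : topologicalKrullDim ↥W₁ ≤ a := dim_le hd h0 hW₁ a fun w hw => hmax _ ⟨w, hw, rfl⟩
    rcases H w hw with ⟨w', hw', hlt⟩ | hle
    · have h2 : ((a + 1 : ℕ) : WithBot ℕ∞) ≤ topologicalKrullDim ↥W₂ :=
        le_dim f hδ hW₂ hw' (a + 1) (by push_cast; omega)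
      have h3 : (a : WithBot ℕ∞) < ((a + 1 : ℕ) : WithBot ℕ∞) := by
        exact_mod_cast Nat.lt_succ_self a
      have h4 : topologicalKrullDim ↥W₁ < topologicalKrullDim ↥W₂ :=
        (h1.trans_lt h3).trans_le h2
      exact ⟨h4.le.trans (le_max_left _ _), fun _ _ => h4⟩
    · have h5 : n ≤ d + d' := by omega
      have h6 : a ≤ d + d' - n := by omega
      have h7 : topologicalKrullDim ↥W₁ ≤ ((d + d' - n : ℕ) : WithBot ℕ∞) :=
        h1.trans (by exact_mod_cast h6)
      refine ⟨?_, fun _ h => h7.trans_lt (not_le.1 (h h5))⟩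
      rw [if_pos h5]
      exact h7.trans (le_max_right _ _)
  · rw [dim_of_isEmpty hne]
    refine ⟨bot_le, ?_⟩
    rintro ⟨w', hw'⟩ -
    have h2 : ((0 : ℕ) : WithBot ℕ∞) ≤ topologicalKrullDim ↥W₂ :=
      le_dim f hδ hW₂ hw' 0 (by simpa using h0 w')
    exact lt_of_lt_of_le (by simp) h2

end K303.ConeDim
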