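import Groth.Agent.CycA.MovMain
import Groth.Agent.CycA.MovSeg

/-!
# The linear projection of the cone construction
-/

set_option autoImplicit false
universe u
open AlgebraicGeometry CategoryTheory HomogeneousLocalization Filter

namespace K303.ConeProj

open Groth.Agent Groth.Agent.CycA
open Groth.Agent.VarietyB.ProjHom Groth.Agent.VarietyB.ProjGlue Groth.Agent.VarietyB.ProjStd
open Groth.Agent.CycA.MovVec Groth.Agent.CycA.MovCoord Groth.Agent.CycA.MovForms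
open Groth.Agent.CycA.MovProj Groth.Agent.CycA.MovGlob Groth.Agent.CycA.MovExc
open Groth.Agent.CycA.MovMain

attribute [local instance] MvPolynomial.gradedAlgebra

variable {K : Type u} [Field K]

section gen

variable {I : Type} [Fintype I] {X : Scheme.{u}}
  (ι : X ⟶ Proj (MvPolynomial.homogeneousSubmodule I K)) (δ : X → ℤ)

/-- A good linear projection: finite, unramified at `η`, and with small excess in the fibre of
`η`. -/
theorem exists_projection [IsAlgClosed K] [IsClosedImmersion ι]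
    [Smooth (ι ≫ Groth.Agent.VarietyB.ProjStd.toSpec I K)]
    [QuasiCompact (ι ≫ Groth.Agent.VarietyB.ProjStd.toSpec I K)] [IsIntegral X]
    (hX : Cyc.IsSetup X δ)
    (hδ : Cyc.DeltaCompat (ι ≫ Groth.Agent.VarietyB.ProjStd.toSpec I K) δ (fun _ => 0)) (m : ℕ)
    (hn : δ (genericPoint X) = m) (η : X) (T : Set X) (hT : T.Finite) :
    ∃ (ℓ : Fin (m + 1) → I → K)
      (h₀ : ⨆ α : Fin (m + 1) × I, X.basicOpen
        (form (ι ≫ Groth.Agent.VarietyB.ProjStd.toSpec I K) (pullbackData ι (stdData I K)) α.2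
          (ℓ α.1)) = ⊤),
      (IsLocalRing.maximalIdeal ((Proj (MvPolynomial.homogeneousSubmodule (Fin (m + 1))
          K)).presheaf.stalk
        (linMap (ι ≫ Groth.Agent.VarietyB.ProjStd.toSpec I K) (pullbackData ι (stdData I K)) ℓ h₀
          η))).map
        ((linMap (ι ≫ Groth.Agent.VarietyB.ProjStd.toSpec I K) (pullbackData ι (stdData I K)) ℓ
          h₀).stalkMap η).hom = IsLocalRing.maximalIdeal (X.presheaf.stalk η) ∧
      ∀ x : X, linMap (ι ≫ Groth.Agent.VarietyB.ProjStd.toSpec I K) (pullbackData ι (stdData I K))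
          ℓ h₀ x = linMap (ι ≫ Groth.Agent.VarietyB.ProjStd.toSpec I K)
            (pullbackData ι (stdData I K)) ℓ h₀ η → x ≠ η → ∀ τ ∈ T, ∀ ζ : X, x ⤳ ζ → τ ⤳ ζ →
        (∃ ζ', η ⤳ ζ' ∧ τ ⤳ ζ' ∧ δ ζ < δ ζ') ∨ δ ζ ≤ δ η + δ τ - m := by
  set p := ι ≫ Groth.Agent.VarietyB.ProjStd.toSpec I K with hp
  set D := pullbackData ι (stdData I K) with hD0
  have hdf : Cyc.IsDimFun X δ := hX.2.2
  have hN : IsLocallyNoetherian X := hX.1
  have hcpt : CompactSpace X := QuasiCompact.compactSpace_of_compactSpace p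
  have hNX : TopologicalSpace.NoetherianSpace X := by
    have : IsNoetherian X := {}
    infer_instance
  have hle : ∀ x, δ x < ((m + 1 : ℕ) : ℤ) := fun x => by
    have := MovZ.delta_le hdf x
    push_cast
    omega
  have hD : ∀ a, IsAffineOpen (D.U a) := MovE4.isAffineOpen_U_pullback ι
  have hsurj : ∀ a, Function.Surjective (D.hom p a) := MovE4.hom_surjective ι
  have e3 := MovDouble.E3 p δ hδ D hD (m + 1) hle
  have e1 : ∀ᶠ ℓ : Fin (m + 1) → I → K in genTuple K (I → K) (m + 1),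
      ∀ τ ∈ T, Good1 ι δ (m + 1) η τ ℓ :=
    (Filter.eventually_all_finite hT).2 fun τ _ => MovDouble.E1 p δ hδ D hD (m + 1) η τ
  have e4 : ∀ᶠ ℓ : Fin (m + 1) → I → K in genTuple K (I → K) (m + 1),
      ∀ ζ ∈ insert η (maxPts δ η T),
      ∀ (h : ⨆ α : Fin (m + 1) × I, X.basicOpen (form p D α.2 (ℓ α.1)) = ⊤),
        MovE4.UnramAt (linMap p D ℓ h) ζ :=
    (Filter.eventually_all_finite ((finite_maxPts δ hdf η hT).insert η)).2 fun ζ _ =>
      MovE4.E4 p δ hδ m hn D hD hsurj ζ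
  obtain ⟨ℓ, h3, h1, h4⟩ := (e3.and (e1.and e4)).exists
  have h₀ := iSup_eq_top_of_E3 D h3
  have hf : IsFinite (linMap p D ℓ h₀) := MovFinite.isFinite_linMap ι ℓ h₀
  refine ⟨ℓ, h₀, (h4 η (Set.mem_insert _ _) h₀).1, ?_⟩
  intro x hx hxη τ hτ ζ hxζ hτζ
  by_cases hmax : ∃ ζ', η ⤳ ζ' ∧ τ ⤳ ζ' ∧ δ ζ < δ ζ'
  · exact Or.inl hmax
  · right
    push Not at hmax
    have h5 : η ⤳ ζ → MovE4.UnramAt (linMap p D ℓ h₀) ζ := fun hηζ =>
      h4 ζ (Set.mem_insert_of_mem _ ⟨τ, hτ, hηζ, hτζ, hmax⟩) h₀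
    have := excess_zero (h1 τ hτ) h₀ hx hxη hxζ hτζ (fun h => (h5 h).1) (fun h => (h5 h).2)
    push_cast at this
    omega

end gen

section openPart

variable {I J : Type} [Fintype I] {P : Scheme.{u}} (pP : P ⟶ Spec (CommRingCat.of K))
  (D₀ : CoordData P I) (ℓ : J → I → K)

/-- The domain of a linear projection. -/
noncomputable def dom : P.Opens := ⨆ α : J × I, P.basicOpen (form pP D₀ α.2 (ℓ α.1))

theorem dom_cover : ⨆ α : J × I, (dom pP D₀ ℓ).toScheme.basicOpen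
    (form ((dom pP D₀ ℓ).ι ≫ pP) (pullbackData (dom pP D₀ ℓ).ι D₀) α.2 (ℓ α.1)) = ⊤ := by
  simp only [MovSeg.basicOpen_form_pullback]
  rw [← Scheme.Hom.preimage_iSup]
  exact Scheme.Opens.ι_preimage_self (dom pP D₀ ℓ)

theorem mem_dom {X : Scheme.{u}} (ι : X ⟶ P)
    (h : ⨆ α : J × I, X.basicOpen (form (ι ≫ pP) (pullbackData ι D₀) α.2 (ℓ α.1)) = ⊤) (x : X) :
    ι x ∈ dom pP D₀ ℓ := by
  simp only [MovSeg.basicOpen_form_pullback] at h
  rw [← Scheme.Hom.preimage_iSup] at h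
  have h1 : x ∈ ι ⁻¹ᵁ (⨆ α : J × I, P.basicOpen (form pP D₀ α.2 (ℓ α.1))) := by
    rw [h]
    trivial
  exact h1

theorem comp_linMap_comp {U X : Scheme.{u}} (o : U ⟶ P) (j : X ⟶ U)
    (hU : ⨆ α : J × I, U.basicOpen (form (o ≫ pP) (pullbackData o D₀) α.2 (ℓ α.1)) = ⊤)
    (hX : ⨆ α : J × I, X.basicOpen (form ((j ≫ o) ≫ pP) (pullbackData (j ≫ o) D₀) α.2 (ℓ α.1)) =
      ⊤) : j ≫ linMap (o ≫ pP) (pullbackData o D₀) ℓ hU =
        linMap ((j ≫ o) ≫ pP) (pullbackData (j ≫ o) D₀) ℓ hX := by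
  rw [MovSeg.comp_linMap]
  refine MovSeg.linMap_congr (Category.assoc _ _ _).symm _ _ _ _ _ hX fun a b W ha hb => ?_
  refine ⟨(isUnit_map_f (pullbackData (j ≫ o) D₀) a b _ ha hb).unit, fun k => ?_⟩
  rw [IsUnit.unit_spec]
  have h1 := map_form ((j ≫ o) ≫ pP) (pullbackData (j ≫ o) D₀) (ℓ k) _ ha hb
  refine Eq.trans ?_ h1
  refine congrArg _ ?_
  rw [MovSeg.form_pullback, MovSeg.form_pullback, MovSeg.form_pullback]
  rfl

end openPart

end K303.ConeProj
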