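import Groth.Agent.IntMult.K303.ConeCore
import Groth.Agent.IntMult.K303.ConeProj
import Groth.Agent.IntMult.K303.ConeDim
import Groth.Agent.CycA.MovRatZ

/-!
# The cone construction of the moving lemma
-/

set_option autoImplicit false
universe u
open AlgebraicGeometry CategoryTheory HomogeneousLocalization Filter

namespace K303.ConeMain

open Groth.Agent Groth.Agent.CycA Groth.Agent.CycB Groth.Agent.CycB.LocQuot
open Groth.Agent.VarietyB.ProjHom Groth.Agent.VarietyB.ProjGlue Groth.Agent.VarietyB.ProjStd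
open Groth.Agent.CycA.MovVec Groth.Agent.CycA.MovCoord Groth.Agent.CycA.MovForms
open Groth.Agent.CycA.MovProj Groth.Agent.CycA.MovGlob Groth.Agent.CycA.MovExc
open Groth.Agent.CycA.MovMain

attribute [local instance] MvPolynomial.gradedAlgebra

variable {K : Type u} [Field K] [IsAlgClosed K] (N : ℕ) {X : Scheme.{u}}
  (ι : X ⟶ Proj (MvPolynomial.homogeneousSubmodule (Fin (N + 1)) K))

theorem main [IsClosedImmersion ι] [Smooth (ι ≫ toSpec (Fin (N + 1)) K)]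
    [QuasiCompact (ι ≫ toSpec (Fin (N + 1)) K)] [IsIntegral X]
    {δP : ↥(Proj (MvPolynomial.homogeneousSubmodule (Fin (N + 1)) K)) → ℤ}
    (hδP : Cyc.DeltaCompat (toSpec (Fin (N + 1)) K) δP (fun _ => 0)) (n : ℕ)
    (hn : δP (ι (genericPoint X)) = n) (ξ : X) (T : Set X) (hT : T.Finite) :
    ∃ c : ↥(Proj (MvPolynomial.homogeneousSubmodule (Fin (N + 1)) K)), c ⤳ ι ξ ∧
      δP c = δP (ι ξ) + N - n ∧
      (∀ x : X, c ⤳ ι x → δP (ι x) ≤ δP (ι ξ)) ∧
      IntMult.mult (IntMult.ptIdeal c) (IntMult.ptIdeal (ι (genericPoint X))) (ι ξ) = 1 ∧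
      ∀ x : X, c ⤳ ι x → δP (ι x) = δP (ι ξ) → x ≠ ξ → ∀ τ ∈ T, ∀ ζ : X, x ⤳ ζ → τ ⤳ ζ →
        (∃ ζ', ξ ⤳ ζ' ∧ τ ⤳ ζ' ∧ δP (ι ζ) < δP (ι ζ')) ∨
          δP (ι ζ) ≤ δP (ι ξ) + δP (ι τ) - n := by
  have hsmP := MovZ.smooth_toSpec K N
  have hsepP : IsSeparated (toSpec (Fin (N + 1)) K) := by
    have := MovZ.isProper_toSpec K N
    infer_instance
  have hintP := MovZ.isIntegral_proj K N
  have hPn : δP (genericPoint _) = N := MovZ.delta_genericPoint hδP
  -- dimension function on `X`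
  obtain ⟨δX, hδX⟩ := SetupLft.exists_deltaCompat (ι ≫ toSpec (Fin (N + 1)) K) (fun _ => 0)
  have e1 : ∀ x, δP (ι x) = δX x := MovZ.delta_eq ι _ _ rfl hδX hδP
  have hsetX := SetupField.isSetup_of_field _ hδX
  obtain ⟨ℓ, h₀, hunr, hmov⟩ := ConeProj.exists_projection ι δX hsetX hδX n
    ((e1 _).symm.trans hn) ξ T hT
  have hfin : IsFinite (linMap (ι ≫ toSpec (Fin (N + 1)) K)
    (pullbackData ι (stdData (Fin (N + 1)) K)) ℓ h₀) := MovFinite.isFinite_linMap ι ℓ h₀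
  -- the target
  have hsmZ := MovZ.smooth_toSpec K n
  have hsepZ : IsSeparated (toSpec (Fin (n + 1)) K) := by
    have := MovZ.isProper_toSpec K n
    infer_instance
  have hintZ := MovZ.isIntegral_proj K n
  obtain ⟨δZ, hδZ⟩ := MovZ.exists_delta K n
  have hZn : δZ (genericPoint _) = n := MovZ.delta_genericPoint hδZ
  have hdZ := (SetupField.isSetup_of_field _ hδZ).2.2
  -- the domain of the projection
  let V := ConeProj.dom (toSpec (Fin (N + 1)) K) (stdData (Fin (N + 1)) K) ℓ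
  have hcov := ConeProj.dom_cover (toSpec (Fin (N + 1)) K) (stdData (Fin (N + 1)) K) ℓ
  have hmem := ConeProj.mem_dom (toSpec (Fin (N + 1)) K) (stdData (Fin (N + 1)) K) ℓ ι h₀
  have hrange : Set.range ι ⊆ Set.range V.ι := by
    rintro _ ⟨x, rfl⟩
    rw [Scheme.Opens.range_ι]
    exact hmem x
  obtain ⟨j, hj⟩ : ∃ j : X ⟶ V.toScheme, j ≫ V.ι = ι :=
    ⟨IsOpenImmersion.lift V.ι ι hrange, IsOpenImmersion.lift_fac _ _ _⟩
  subst hj
  have hlin := ConeProj.comp_linMap_comp (toSpec (Fin (N + 1)) K) (stdData (Fin (N + 1)) K) ℓ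
    V.ι j hcov h₀
  rw [← hlin] at hfin
  have hunr' : (IsLocalRing.maximalIdeal ((Proj (MvPolynomial.homogeneousSubmodule (Fin (n + 1))
          K)).presheaf.stalk ((j ≫ linMap (V.ι ≫ toSpec (Fin (N + 1)) K)
            (pullbackData V.ι (stdData (Fin (N + 1)) K)) ℓ hcov) ξ))).map
      ((j ≫ linMap (V.ι ≫ toSpec (Fin (N + 1)) K)
            (pullbackData V.ι (stdData (Fin (N + 1)) K)) ℓ hcov).stalkMap ξ).hom =
      IsLocalRing.maximalIdeal (X.presheaf.stalk ξ) := by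
    rw [hlin]
    exact hunr
  obtain ⟨c, h1, h2, h3, h4, h5⟩ := ConeCore.core (toSpec (Fin (N + 1)) K) hδP V.ι j
    (linMap (V.ι ≫ toSpec (Fin (N + 1)) K) (pullbackData V.ι (stdData (Fin (N + 1)) K)) ℓ hcov)
    (toSpec (Fin (n + 1)) K) (linMap_toSpec _ _ _ _) hδZ (hZn.trans hn.symm) ξ hunr'
  rw [hlin] at h3 h4
  refine ⟨c, h1, ?_, ?_, h5, ?_⟩
  · rw [h2, hPn, hn]
  · intro x hx
    have h6 := le_of_specializes hdZ (h3 x hx)
    rw [h4, h4] at h6
    exact h6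
  · intro x hx hxd hne τ hτ ζ hxζ hτζ
    have h6 := eq_of_specializes_of_eq hdZ (h3 x hx) (by rw [h4, h4, hxd])
    have h7 := hmov x h6.symm hne τ hτ ζ hxζ hτζ
    simp only [e1]
    exact h7

end K303.ConeMain
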