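import Groth.Agent.IntMult.K303.SheafPull
import Groth.Agent.CycB.ClosSheaf
import Groth.Agent.CycB.GenLocFin
import Groth.Agent.CycB.FlatDiv2

/-!
# Flat pullback of the intersection product of two cycles
-/

set_option autoImplicit false

universe u

open CategoryTheory AlgebraicGeometry CategoryTheory.Limits

namespace K303.CyclePull

open Groth.Agent Groth.Agent.CycA Groth.Agent.CycB Groth.Agent.CycA.MovRatZ

variable {X Y : Scheme.{u}}

section PullFun

variable (f : X ⟶ Y) (δX : X → ℤ) (δY : Y → ℤ) (e : ℤ)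

theorem pullFun_add (α β : Y → ℤ) :
    Cyc.pullFun f δX δY e (α + β) = Cyc.pullFun f δX δY e α + Cyc.pullFun f δX δY e β := by
  funext x
  simp only [Cyc.pullFun, Pi.add_apply]
  split_ifs
  · ring
  · ring

theorem pullFun_zero : Cyc.pullFun f δX δY e 0 = 0 := by
  funext x
  simp only [Cyc.pullFun, Pi.zero_apply]
  split_ifs
  · ring
  · ring

theorem pullFun_zsmul (c : ℤ) (α : Y → ℤ) :
    Cyc.pullFun f δX δY e (c • α) = c • Cyc.pullFun f δX δY e α := by
  funext x
  simp only [Cyc.pullFun, Pi.smul_apply, smul_eq_mul]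
  split_ifs
  · ring
  · ring

theorem pullFun_sum {ι : Type*} (s : Finset ι) (α : ι → Y → ℤ) :
    Cyc.pullFun f δX δY e (∑ i ∈ s, α i) = ∑ i ∈ s, Cyc.pullFun f δX δY e (α i) := by
  classical
  induction s using Finset.induction_on with
  | empty => simp [pullFun_zero]
  | insert a s ha ih => rw [Finset.sum_insert ha, Finset.sum_insert ha, pullFun_add, ih]

end PullFun

theorem pullFun_ne_zero {f : X ⟶ Y} {δX : X → ℤ} {δY : Y → ℤ} {e : ℤ} {α : Y → ℤ} {x : X}
    (h : Cyc.pullFun f δX δY e α x ≠ 0) : α (f x) ≠ 0 ∧ δX x = δY (f x) + e := by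
  unfold Cyc.pullFun at h
  split_ifs at h with h1
  · exact ⟨left_ne_zero_of_mul h, h1⟩
  · exact absurd rfl h

theorem intersectProperly (f : X ⟶ Y) [LocallyOfFiniteType f] (δX : X → ℤ) (δY : Y → ℤ)
    (hδ : Cyc.DeltaCompat f δX δY) (n m : ℤ) (e : ℕ) (he : (e : ℤ) = n - m)
    (hrel : Cyc.HasRelDim f e) (α β : Y → ℤ) (hprop : IntMult.IntersectProperly δY m α β) :
    IntMult.IntersectProperly δX n (Cyc.pullFun f δX δY e α) (Cyc.pullFun f δX δY e β) := by
  intro x₁ x₂ z h1 h2 h3 h4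
  obtain ⟨h5, h6⟩ := pullFun_ne_zero h1
  obtain ⟨h7, h8⟩ := pullFun_ne_zero h2
  have h9 := hprop _ _ _ h5 h7 (h3.map f.continuous) (h4.map f.continuous)
  have h10 := RelDim.delta_le hrel hδ z
  omega

variable {K : Type u} [Field K] [IsAlgClosed K]

theorem pull_point (f : X ⟶ Y) (gX : X ⟶ Spec (CommRingCat.of K))
    (gY : Y ⟶ Spec (CommRingCat.of K))
    (hf : f ≫ gY = gX) [Smooth gX] [IsSeparated gX] [IsIntegral X]
    [Smooth gY] [IsSeparated gY] [IsIntegral Y] [Flat f] (δX : X → ℤ)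
    (δY : Y → ℤ) (hX : Cyc.IsSetup X δX) (hY : Cyc.IsSetup Y δY)
    (hδX : Cyc.DeltaCompat gX δX (fun _ => 0)) (hδY : Cyc.DeltaCompat gY δY (fun _ => 0))
    (hδ : Cyc.DeltaCompat f δX δY) (n m : ℤ) (hn : δX (genericPoint X) = n)
    (hm : δY (genericPoint Y) = m) (e : ℕ) (he : (e : ℤ) = n - m) (hrel : Cyc.HasRelDim f e)
    (ξ η : Y) (hprop : ∀ ζ, ξ ⤳ ζ → η ⤳ ζ → δY ζ ≤ δY ξ + δY η - m) :
    Cyc.pullFun f δX δY e (IntMult.interProd δY m (Set.indicator {ξ} 1) (Set.indicator {η} 1)) =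
      IntMult.interProd δX n (Cyc.pullFun f δX δY e (Set.indicator {ξ} 1))
        (Cyc.pullFun f δX δY e (Set.indicator {η} 1)) := by
  classical
  have hNY : IsLocallyNoetherian Y := hY.1
  have hlft : LocallyOfFiniteType f := by
    have : LocallyOfFiniteType (f ≫ gY) := by rw [hf]; infer_instance
    exact locallyOfFiniteType_of_comp f gY
  have hdim := hY.2.2
  have hsh : ∀ ξ : Y, Cyc.sheafFun δY (δY ξ) (Cyc.closureStructureSheaf ξ) =
      Set.indicator {ξ} 1 := by
    intro ξ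
    rw [ClosSheaf.sheafFun_closureStructureSheaf hdim]
    funext x
    rw [Set.indicator_apply]
    by_cases h : x = ξ <;> simp [h]
  have hle : ∀ (ξ y : Y), Nontrivial ((Cyc.closureStructureSheaf ξ).presheaf.stalk y) →
      δY y ≤ δY ξ := fun ξ y hy =>
    LocQuot.le_of_specializes hdim ((ClosSheaf.nontrivial_stalk_iff ξ y).1 hy)
  obtain ⟨-, h1⟩ := SheafPull.main f gX gY hf δX δY hX hY hδX hδY hδ n m hn hm e he hrel
    (Cyc.closureStructureSheaf ξ) (Cyc.closureStructureSheaf η)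
    (ClosSheaf.isCoh_closureStructureSheaf ξ) (ClosSheaf.isCoh_closureStructureSheaf η)
    (δY ξ) (δY η) (hle ξ) (hle η) (fun y h2 h3 =>
      hprop y ((ClosSheaf.nontrivial_stalk_iff ξ y).1 h2)
        ((ClosSheaf.nontrivial_stalk_iff η y).1 h3))
  have h2 := (S1897.result X Y δX δY hX hY f e hrel hδ (δY ξ) (Cyc.closureStructureSheaf ξ)
    (ClosSheaf.isCoh_closureStructureSheaf ξ) (hle ξ)).2
  have h3 := (S1897.result X Y δX δY hX hY f e hrel hδ (δY η) (Cyc.closureStructureSheaf η)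
    (ClosSheaf.isCoh_closureStructureSheaf η) (hle η)).2
  rw [← h2, ← h3, hsh, hsh] at h1
  exact h1

/-- Flat pullback of the intersection product of functions with finite support. -/
theorem pull_interProd (f : X ⟶ Y) (gX : X ⟶ Spec (CommRingCat.of K))
    (gY : Y ⟶ Spec (CommRingCat.of K))
    (hf : f ≫ gY = gX) [Smooth gX] [IsSeparated gX] [QuasiCompact gX] [IsIntegral X]
    [Smooth gY] [IsSeparated gY] [IsIntegral Y] [Flat f] (δX : X → ℤ)
    (δY : Y → ℤ) (hX : Cyc.IsSetup X δX) (hY : Cyc.IsSetup Y δY)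
    (hδX : Cyc.DeltaCompat gX δX (fun _ => 0)) (hδY : Cyc.DeltaCompat gY δY (fun _ => 0))
    (hδ : Cyc.DeltaCompat f δX δY) (n m : ℤ) (hn : δX (genericPoint X) = n)
    (hm : δY (genericPoint Y) = m) (e : ℕ) (he : (e : ℤ) = n - m) (hrel : Cyc.HasRelDim f e)
    (α β : Y → ℤ) (hα : (Function.support α).Finite) (hβ : (Function.support β).Finite)
    (hprop : IntMult.IntersectProperly δY m α β) :
    Cyc.pullFun f δX δY e (IntMult.interProd δY m α β) =
      IntMult.interProd δX n (Cyc.pullFun f δX δY e α) (Cyc.pullFun f δX δY e β) := by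
  classical
  have hNX : IsLocallyNoetherian X := hX.1
  have hcpt : CompactSpace X := QuasiCompact.compactSpace_of_compactSpace gX
  have hlft : LocallyOfFiniteType f := by
    have : LocallyOfFiniteType (f ≫ gY) := by rw [hf]; infer_instance
    exact locallyOfFiniteType_of_comp f gY
  have hfin : ∀ ξ : Y,
      (Function.support (Cyc.pullFun f δX δY e (Set.indicator {ξ} 1))).Finite := by
    intro ξ
    obtain ⟨α, hα⟩ := exists_cycle_of_finite_support (finite_support_indicator ξ)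
    obtain ⟨β, hβ⟩ := GenLocFin.exists_pullFun_cycle (p := f) (δ := δY) (e : ℤ) hX.2.2
      (Groth.Agent.CycB.FlatDiv.delta_of_fibGen f hrel hδ) α
    rw [← hα, ← hβ]
    exact finite_support β
  have hfinc : ∀ (c : ℤ) (ξ : Y),
      (Function.support (c • Cyc.pullFun f δX δY e (Set.indicator {ξ} 1))).Finite := fun c ξ =>
    (hfin ξ).subset (Function.support_const_smul_subset _ _)
  have hindc : ∀ (c : ℤ) (ξ : Y),
      (Function.support (c • (Set.indicator {ξ} 1 : Y → ℤ))).Finite := fun c ξ =>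
    (finite_support_indicator ξ).subset (Function.support_const_smul_subset _ _)
  conv_lhs => rw [eq_sum_indicator hα, eq_sum_indicator hβ]
  conv_rhs => rw [eq_sum_indicator hα, eq_sum_indicator hβ]
  rw [interProd_sum_left δY m _ _ (finite_support_sum _ _ fun η _ => hindc _ η)
    (fun ξ _ => hindc _ ξ), pullFun_sum, pullFun_sum, pullFun_sum]
  simp only [pullFun_zsmul]
  rw [interProd_sum_left δX n _ _ (finite_support_sum _ _ fun η _ => hfinc _ η)
    (fun ξ _ => hfinc _ ξ)]
  refine Finset.sum_congr rfl fun ξ hξ => ?_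
  rw [interProd_sum_right δY m _ _ (hindc _ ξ) (fun η _ => hindc _ η), pullFun_sum,
    interProd_sum_right δX n _ _ (hfinc _ ξ) (fun η _ => hfinc _ η)]
  refine Finset.sum_congr rfl fun η hη => ?_
  rw [interProd_zsmul_left, interProd_zsmul_right, interProd_zsmul_left, interProd_zsmul_right,
    pullFun_zsmul, pullFun_zsmul]
  congr 2
  refine pull_point f gX gY hf δX δY hX hY hδX hδY hδ n m hn hm e he hrel ξ η ?_
  intro ζ h1 h2
  exact hprop ξ η ζ (by simpa using hξ) (by simpa using hη) h1 h2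

end K303.CyclePull
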