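import Mathlib.LinearAlgebra.Matrix.MvPolynomial
import Mathlib.LinearAlgebra.Matrix.Determinant.Basic
import Mathlib.Algebra.MvPolynomial.NoZeroDivisors
import Mathlib.Algebra.MvPolynomial.Nilpotent
import Mathlib.Algebra.MvPolynomial.Monad
import Mathlib.LinearAlgebra.Matrix.Permutation
import Mathlib.Algebra.Polynomial.RingDivision

/-!
# Irreducibility of the generic determinant
-/

set_option autoImplicit false
universe u v

namespace K303.DetIrred

open MvPolynomial

variable {σ : Type v} {k : Type u} [Field k]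

/-- Scaling the variables in `S` by a new variable `T`. -/
noncomputable def scale (S : Set σ) [DecidablePred (· ∈ S)] :
    MvPolynomial σ k →ₐ[k] Polynomial (MvPolynomial σ k) :=
  aeval fun p => if p ∈ S then Polynomial.C (X p) * Polynomial.X else Polynomial.C (X p)

/-- Setting the variables in `S` to zero. -/
noncomputable def kill (S : Set σ) [DecidablePred (· ∈ S)] :
    MvPolynomial σ k →ₐ[k] MvPolynomial σ k :=
  aeval fun p => if p ∈ S then 0 else X p

variable (S : Set σ) [DecidablePred (· ∈ S)]

theorem eval_one_scale (f : MvPolynomial σ k) : (scale S f).eval 1 = f := by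
  have h : ((Polynomial.aeval (R := MvPolynomial σ k) (1 : MvPolynomial σ k)).restrictScalars k).comp
      (scale S) = AlgHom.id k (MvPolynomial σ k) := by
    apply MvPolynomial.algHom_ext
    intro p
    simp only [AlgHom.comp_apply, AlgHom.restrictScalars_apply, scale, aeval_X, AlgHom.id_apply]
    split_ifs <;> simp
  have := DFunLike.congr_fun h f
  simpa [Polynomial.coe_aeval_eq_eval] using this

theorem eval_zero_scale (f : MvPolynomial σ k) : (scale S f).eval 0 = kill S f := by
  have h : ((Polynomial.aeval (R := MvPolynomial σ k) (0 : MvPolynomial σ k)).restrictScalars k).comp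
      (scale S) = kill S := by
    apply MvPolynomial.algHom_ext
    intro p
    simp only [AlgHom.comp_apply, AlgHom.restrictScalars_apply, scale, aeval_X, kill]
    split_ifs <;> simp
  have := DFunLike.congr_fun h f
  simpa [Polynomial.coe_aeval_eq_eval] using this

theorem notMem_vars_kill (f : MvPolynomial σ k) {v : σ} (hv : v ∈ S) : v ∉ (kill S f).vars := by
  classical
  intro h
  obtain ⟨i, _, h2⟩ := mem_vars_bind₁ (fun p => if p ∈ S then (0 : MvPolynomial σ k) else X p) f h
  by_cases hi : i ∈ S
  · simp [hi] at h2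
  · simp [hi] at h2
    subst h2
    exact hi hv

theorem of_natDegree {f : MvPolynomial σ k} (h : (scale S f).natDegree = 0) {v : σ} (hv : v ∈ f.vars) :
    v ∉ S := by
  intro hvS
  rw [Polynomial.natDegree_eq_zero] at h
  obtain ⟨c, hc⟩ := h
  have h1 := eval_one_scale S f
  have h0 := eval_zero_scale S f
  rw [← hc, Polynomial.eval_C] at h1 h0
  rw [← h1, h0] at hv
  exact notMem_vars_kill S f hvS hv

/-- If `F` is homogeneous of degree one in the variables of `S` then one of the factors of `F` does
not involve the variables of `S`. -/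
theorem key {F f g : MvPolynomial σ k} (hF : scale S F = Polynomial.X * Polynomial.C F) (h0 : F ≠ 0)
    (h : F = f * g) : (∀ v ∈ f.vars, v ∉ S) ∨ (∀ v ∈ g.vars, v ∉ S) := by
  have h1 : scale S f * scale S g = Polynomial.X * Polynomial.C F := by
    rw [← map_mul, ← h, hF]
  have haux : ∀ f' g' : Polynomial (MvPolynomial σ k), f' * g' = Polynomial.C F →
      g'.natDegree = 0 := by
    intro f' g' h2
    have h3 := congrArg Polynomial.natDegree h2
    have h4 : f' * g' ≠ 0 := by
      rw [h2]
      simpa using h0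
    rw [Polynomial.natDegree_C, Polynomial.natDegree_mul (left_ne_zero_of_mul h4)
      (right_ne_zero_of_mul h4)] at h3
    omega
  rcases (Polynomial.prime_X (R := MvPolynomial σ k)).dvd_or_dvd ⟨_, h1⟩ with ⟨f', hf'⟩ | ⟨g', hg'⟩
  · right
    intro v hv
    refine of_natDegree S (haux f' _ ?_) hv
    rw [hf', mul_assoc] at h1
    exact mul_left_cancel₀ Polynomial.X_ne_zero h1
  · left
    intro v hv
    refine of_natDegree S (haux g' _ ?_) hv
    rw [hg', mul_left_comm] at h1
    rw [mul_comm]
    exact mul_left_cancel₀ Polynomial.X_ne_zero h1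

section Det

variable {n : ℕ}

theorem scale_det_row (i : Fin n) [DecidablePred (· ∈ {p : Fin n × Fin n | p.1 = i})] :
    scale {p : Fin n × Fin n | p.1 = i} (Matrix.mvPolynomialX (Fin n) (Fin n) k).det =
      Polynomial.X * Polynomial.C (Matrix.mvPolynomialX (Fin n) (Fin n) k).det := by
  rw [AlgHom.map_det, RingHom.map_det]
  set M : Matrix (Fin n) (Fin n) (Polynomial (MvPolynomial (Fin n × Fin n) k)) :=
    Polynomial.C.mapMatrix (Matrix.mvPolynomialX (Fin n) (Fin n) k) with hM
  have h2 := Matrix.det_updateRow_smul M i (Polynomial.X : Polynomial (MvPolynomial (Fin n × Fin n) k))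
    (M i)
  rw [Matrix.updateRow_eq_self] at h2
  rw [← h2]
  congr 1
  ext a b : 1
  rw [AlgHom.mapMatrix_apply, Matrix.map_apply, Matrix.mvPolynomialX_apply, scale, aeval_X]
  by_cases h : a = i
  · subst h
    rw [if_pos (show (a, b) ∈ {p : Fin n × Fin n | p.1 = a} from rfl), Matrix.updateRow_self,
      Pi.smul_apply, hM, RingHom.mapMatrix_apply, Matrix.map_apply, Matrix.mvPolynomialX_apply,
      smul_eq_mul, mul_comm]
  · rw [if_neg (show (a, b) ∉ {p : Fin n × Fin n | p.1 = i} from h), Matrix.updateRow_ne h,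
      hM, RingHom.mapMatrix_apply, Matrix.map_apply, Matrix.mvPolynomialX_apply]

theorem scale_det_col (j : Fin n) [DecidablePred (· ∈ {p : Fin n × Fin n | p.2 = j})] :
    scale {p : Fin n × Fin n | p.2 = j} (Matrix.mvPolynomialX (Fin n) (Fin n) k).det =
      Polynomial.X * Polynomial.C (Matrix.mvPolynomialX (Fin n) (Fin n) k).det := by
  rw [AlgHom.map_det, RingHom.map_det]
  set M : Matrix (Fin n) (Fin n) (Polynomial (MvPolynomial (Fin n × Fin n) k)) :=
    Polynomial.C.mapMatrix (Matrix.mvPolynomialX (Fin n) (Fin n) k) with hM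
  have h2 := Matrix.det_updateCol_smul M j (Polynomial.X : Polynomial (MvPolynomial (Fin n × Fin n) k))
    (fun a => M a j)
  have h3 : M.updateCol j (fun a => M a j) = M := by
    ext a b : 1
    by_cases h : b = j
    · subst h; simp
    · rw [Matrix.updateCol_ne h]
  rw [h3] at h2
  rw [← h2]
  congr 1
  ext a b : 1
  rw [AlgHom.mapMatrix_apply, Matrix.map_apply, Matrix.mvPolynomialX_apply, scale, aeval_X]
  by_cases h : b = j
  · subst h
    rw [if_pos (show (a, b) ∈ {p : Fin n × Fin n | p.2 = b} from rfl), Matrix.updateCol_self,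
      Pi.smul_apply, hM, RingHom.mapMatrix_apply, Matrix.map_apply, Matrix.mvPolynomialX_apply,
      smul_eq_mul, mul_comm]
  · rw [if_neg (show (a, b) ∉ {p : Fin n × Fin n | p.2 = j} from h), Matrix.updateCol_ne h,
      hM, RingHom.mapMatrix_apply, Matrix.map_apply, Matrix.mvPolynomialX_apply]

theorem mem_vars_det (a b : Fin n) :
    (a, b) ∈ (Matrix.mvPolynomialX (Fin n) (Fin n) k).det.vars := by
  classical
  by_contra hcon
  let τ : Equiv.Perm (Fin n) := Equiv.swap a b
  let A : Fin n × Fin n → k := fun p => if τ p.1 = p.2 then 1 else 0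
  let B : Fin n × Fin n → k := fun p => if p.1 = a then 0 else A p
  have h1 : eval A (Matrix.mvPolynomialX (Fin n) (Fin n) k).det =
      eval B (Matrix.mvPolynomialX (Fin n) (Fin n) k).det := by
    have hb : ∀ p ∈ (Matrix.mvPolynomialX (Fin n) (Fin n) k).det.vars, A p = B p := by
      rintro ⟨p, q⟩ hp
      by_cases hpa : p = a
      · subst hpa
        have hq : q ≠ b := by
          rintro rfl
          exact hcon hp
        have h2 : ¬ (τ p = q) := by
          simp only [τ, Equiv.swap_apply_left]
          exact fun h => hq h.symm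
        simp [A, B, h2]
      · simp [B, hpa]
    exact eval₂Hom_congr' rfl (fun i hi _ => hb i hi) rfl
  rw [Matrix.eval_det_mvPolynomialX, Matrix.eval_det_mvPolynomialX] at h1
  have h2 : (Matrix.of fun i j : Fin n => B (i, j)).det = 0 := by
    apply Matrix.det_eq_zero_of_row_eq_zero a
    intro j
    simp [B]
  have h3 : (Matrix.of fun i j : Fin n => A (i, j)) = τ.permMatrix k := by
    ext i j
    simp [A, Equiv.Perm.permMatrix, PEquiv.toMatrix_apply]
  rw [h2, h3, Matrix.det_permutation] at h1
  have h4 : ((Equiv.Perm.sign τ : ℤˣ) : ℤ) = 1 ∨ ((Equiv.Perm.sign τ : ℤˣ) : ℤ) = -1 := by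
    rcases Int.units_eq_one_or (Equiv.Perm.sign τ) with h | h <;> simp [h]
  rcases h4 with h | h <;> simp [h] at h1

theorem irreducible_det (hn : 1 ≤ n) :
    Irreducible (Matrix.mvPolynomialX (Fin n) (Fin n) k).det := by
  classical
  have h0 : (Matrix.mvPolynomialX (Fin n) (Fin n) k).det ≠ 0 := Matrix.det_mvPolynomialX_ne_zero _ _
  have hunit : ∀ f : MvPolynomial (Fin n × Fin n) k, f ≠ 0 → f.vars = ∅ → IsUnit f := by
    intro f hf hv
    have : f ∈ (C : k →+* MvPolynomial (Fin n × Fin n) k).range := by
      have := (vars_eq_empty_iff_eq_C (p := f)).1 hv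
      exact ⟨_, this.symm⟩
    obtain ⟨c, rfl⟩ := this
    have hc : c ≠ 0 := by
      rintro rfl
      exact hf (map_zero _)
    exact (IsUnit.mk0 c hc).map _
  refine ⟨?_, ?_⟩
  · intro hu
    have h1 := mem_vars_det (k := k) (⟨0, hn⟩ : Fin n) ⟨0, hn⟩
    rw [MvPolynomial.isUnit_iff_eq_C_of_isReduced] at hu
    obtain ⟨r, -, hr⟩ := hu
    rw [hr, vars_C] at h1
    simp at h1
  · intro f g hfg
    have hf0 : f ≠ 0 := left_ne_zero_of_mul (hfg ▸ h0)
    have hg0 : g ≠ 0 := right_ne_zero_of_mul (hfg ▸ h0)
    by_contra hcon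
    push Not at hcon
    obtain ⟨⟨a, b⟩, hab⟩ : f.vars.Nonempty := by
      rw [Finset.nonempty_iff_ne_empty]
      exact fun h => hcon.1 (hunit f hf0 h)
    obtain ⟨⟨c, d⟩, hcd⟩ : g.vars.Nonempty := by
      rw [Finset.nonempty_iff_ne_empty]
      exact fun h => hcon.2 (hunit g hg0 h)
    have h1 := mem_vars_det (k := k) a d
    rw [hfg] at h1
    rcases Finset.mem_union.1 (vars_mul _ _ h1) with h2 | h2
    · rcases key _ (scale_det_col (k := k) d) h0 hfg with h | h
      · exact h _ h2 rfl
      · exact h _ hcd rfl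
    · rcases key _ (scale_det_row (k := k) a) h0 hfg with h | h
      · exact h _ hab rfl
      · exact h _ h2 rfl

end Det

end K303.DetIrred
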