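import Groth.Agent.CycA.MovFin
import Groth.Agent.CycA.MovLemmaM
import Groth.Agent.CycA.MovRatZ
import Groth.Agent.CycA.FibreComp
import Groth.Agent.CycA.MovMain
import Groth.Agent.CycB.SetupLft
import Groth.Agent.S1900
import Groth.Agent.Dix.ProjProper

/-!
# The moving lemma

`movable`: on a nonsingular projective variety every point cycle is rationally equivalent to a cycle
meeting a given finite set of subvarieties properly.
-/

set_option autoImplicit false
universe u
open CategoryTheory CategoryTheory.Limits AlgebraicGeometry TopologicalSpace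

namespace K303.MovingLemma

open Groth.Agent Groth.Agent.CycA Groth.Agent.CycA.MovRatZ Groth.Agent.CycA.MovFin
  Groth.Agent.CycB.DivFun

/-- The functions with `δ`-dimension `r` which are rationally equivalent to functions with finite
support meeting all points of `T` properly. -/
def movG {X : Scheme.{u}} (δ : X → ℤ) (n r : ℤ) (T : Set X) : AddSubgroup (X → ℤ) where
  carrier := {φ | ∃ φ' : X → ℤ, (Function.support φ').Finite ∧
    (∀ x, φ' x ≠ 0 → δ x = r ∧ ∀ τ ∈ T, ∀ ζ, x ⤳ ζ → τ ⤳ ζ → δ ζ ≤ r + δ τ - n) ∧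
    φ' - φ ∈ RatZ δ r}
  zero_mem' := ⟨0, by simp, fun x hx => absurd rfl hx, by rw [sub_zero]; exact zero_mem _⟩
  add_mem' := by
    rintro φ ψ ⟨φ', h1, h2, h3⟩ ⟨ψ', h4, h5, h6⟩
    refine ⟨φ' + ψ', (h1.union h4).subset (Function.support_add _ _), ?_, ?_⟩
    · intro x hx
      by_cases h : φ' x = 0
      · refine h5 x fun h' => hx ?_
        rw [Pi.add_apply, h, h', add_zero]
      · exact h2 x h
    · rw [add_sub_add_comm]
      exact add_mem h3 h6
  neg_mem' := by
    rintro φ ⟨φ', h1, h2, h3⟩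
    refine ⟨-φ', by rwa [Function.support_neg], ?_, ?_⟩
    · intro x hx
      exact h2 x (by simpa using hx)
    · rw [neg_sub_neg, ← neg_sub]
      exact neg_mem h3

theorem mem_movG_of_mem_ratZ {X : Scheme.{u}} {δ : X → ℤ} {n r : ℤ} {T : Set X} {φ : X → ℤ}
    (h : φ ∈ RatZ δ r) : φ ∈ movG δ n r T :=
  ⟨0, by simp, fun x hx => absurd rfl hx, by rw [zero_sub]; exact neg_mem h⟩

theorem mem_movG_self {X : Scheme.{u}} {δ : X → ℤ} {n r : ℤ} {T : Set X} {φ : X → ℤ}
    (hφ : (Function.support φ).Finite)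
    (h : ∀ x, φ x ≠ 0 → δ x = r ∧ ∀ τ ∈ T, ∀ ζ, x ⤳ ζ → τ ⤳ ζ → δ ζ ≤ r + δ τ - n) :
    φ ∈ movG δ n r T :=
  ⟨φ, hφ, h, by rw [sub_self]; exact zero_mem _⟩

theorem indicator_mem {K : Type u} [Field K] [IsAlgClosed K] {X : Scheme.{u}}
    (f : X ⟶ Spec (CommRingCat.of K)) [Smooth f] [IsSeparated f] [QuasiCompact f] [IsIntegral X]
    (δ : X → ℤ) (hX : Cyc.IsSetup X δ) (n : ℤ)
    (hn : δ (genericPoint X) = n)
    (hM : ∀ δP : ↥(CohB1.ProjSpaceOver 1 X) → ℤ,
      Cyc.DeltaCompat (CohB1.ProjSpaceOver.toBase 1 X) δP δ → ∀ η : X, δ η < n →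
      ∀ T : Set X, T.Finite → MovLemmaM.Moves f δ n δP η T)
    (r : ℤ) (T : Set X) (hT : T.Finite) (η : X) (hη : δ η = r) :
    Set.indicator {η} 1 ∈ movG δ n r T := by
  have hN : IsLocallyNoetherian X := hX.1
  have hcpt : CompactSpace X := QuasiCompact.compactSpace_of_compactSpace f
  have hNX : NoetherianSpace X := by
    have : IsNoetherian X := {}
    infer_instance
  have hdf : Cyc.IsDimFun X δ := hX.2.2
  have hprp : IsProper (CohB1.ProjSpaceOver.toBase 1 X) := Dix.ProjProper.isProper_toBase 1 X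
  have hPcpt : CompactSpace ↥(CohB1.ProjSpaceOver 1 X) :=
    QuasiCompact.compactSpace_of_compactSpace (CohB1.ProjSpaceOver.toBase 1 X)
  obtain ⟨δP, hP⟩ := CycB.SetupLft.exists_deltaCompat (CohB1.ProjSpaceOver.toBase 1 X) δ
  have hmain : ∀ (e : ℕ) (η : X), δ η = r →
      (∀ τ ∈ T, ∀ ζ, η ⤳ ζ → τ ⤳ ζ → δ ζ ≤ r + δ τ - n + e) →
      Set.indicator {η} (1 : X → ℤ) ∈ movG δ n r T := by
    intro e
    induction e with
    | zero =>
      intro η hη h
      refine mem_movG_self (finite_support_indicator η) fun x hx => ?_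
      rw [indicator_ne_zero_iff] at hx
      subst hx
      exact ⟨hη, by simpa using h⟩
    | succ e ih =>
      intro η hη h
      by_cases hηn : δ η < n
      swap
      · refine mem_movG_self (finite_support_indicator η) fun x hx => ?_
        rw [indicator_ne_zero_iff] at hx
        subst hx
        refine ⟨hη, fun τ _ ζ _ h2 => ?_⟩
        have h3 : δ ζ ≤ δ τ := by
          by_cases h : τ = ζ
          · rw [h]
          · exact (hdf τ ζ h2 h).1.le
        omega
      obtain ⟨m, V, ιV, hVint, hVcl, c, b, hV1, hVdom, hV2, hV3, hb, hV4, hbf, hV5, hV6⟩ :=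
        hM δP hP η hηn T hT
      let G : Fin m → Fin (1 + 1) → X → ℤ := fun k j =>
        Cyc.subschemeFun δ (δ η) (pullback.snd (ιV k) (P1.sect X j))
      have hG : ∀ k j, (Function.support (G k j)).Finite := fun k j => by
        have := hVcl k
        exact finite_support_subschemeFun δ (δ η) _
      have hGr : ∀ k j x, G k j x ≠ 0 → δ x = δ η := by
        intro k j x hx
        by_contra hcon
        apply hx
        change Cyc.subschemeFun δ (δ η) _ x = 0
        rw [Cyc.subschemeFun, if_neg hcon]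
      have hGG : ∀ k, G k 0 - G k 1 ∈ RatZ δ r := by
        intro k
        have hVk := hVint k
        have hVk' := hVcl k
        obtain ⟨γ₀, hγ₀⟩ := exists_cycle_of_finite_support (hG k 0)
        obtain ⟨γ₁, hγ₁⟩ := exists_cycle_of_finite_support (hG k 1)
        have h1 := S1900.result X δ hX δP hP (δ η) (V k) (ιV k) (hV1 k)
          (FibreComp.notMem_range_of_dominates K f (ιV k) (hVdom k) 0)
          (FibreComp.notMem_range_of_dominates K f (ιV k) (hVdom k) 1) γ₀ γ₁ hγ₀ hγ₁
        have h2 := mem_ratZ_of_ratEquivZero (α := γ₀ - γ₁) h1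
        rw [← hγ₀, ← hγ₁, ← hη]
        exact h2
      have hbG : b ∈ movG δ n r T := by
        rw [eq_sum_indicator hbf]
        refine AddSubgroup.sum_mem _ fun x hx => AddSubgroup.zsmul_mem _ ?_ _
        have hx' : b x ≠ 0 := by simpa using hx
        obtain ⟨h1, h2⟩ := hb x hx'
        refine ih x (h1.trans hη) fun τ hτ ζ hxζ hτζ => ?_
        rcases h2 τ hτ ζ hxζ hτζ with h3 | ⟨ζ', h4, h5, h6⟩
        · omega
        · have := h τ hτ ζ' h4 h5
          push_cast at this
          omega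
      have hG1 : ∀ k, G k 1 ∈ movG δ n r T := by
        intro k
        refine mem_movG_self (hG k 1) fun x hx => ⟨(hGr k 1 x hx).trans hη, ?_⟩
        intro τ hτ ζ h1 h2
        rw [← hη]
        exact hV4 k x hx τ hτ ζ h1 h2
      have hG0 : ∀ k, G k 0 ∈ movG δ n r T := by
        intro k
        have := add_mem (mem_movG_of_mem_ratZ (n := n) (T := T) (hGG k)) (hG1 k)
        rwa [sub_add_cancel] at this
      have h5 : Set.indicator {η} (1 : X → ℤ) = (∑ k, c k • G k 0) - b := by
        funext x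
        rw [Pi.sub_apply, Finset.sum_apply]
        have := hV2 x
        simp only [Pi.smul_apply, smul_eq_mul]
        rw [this, add_sub_cancel_right]
      rw [h5]
      exact AddSubgroup.sub_mem _ (AddSubgroup.sum_mem _ fun k _ =>
        AddSubgroup.zsmul_mem _ (hG0 k) _) hbG
  obtain ⟨e, he⟩ : ∃ e : ℕ, ∀ τ ∈ T, n - r - δ τ + n ≤ e := by
    have hne := hT.image (fun τ => (n - r - δ τ + n).toNat)
    obtain ⟨e, he⟩ := hne.bddAbove
    refine ⟨e, fun τ hτ => ?_⟩
    have h1 := he (Set.mem_image_of_mem _ hτ)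
    have h2 := Int.self_le_toNat (n - r - δ τ + n)
    have h3 : (((n - r - δ τ + n).toNat : ℕ) : ℤ) ≤ e := by exact_mod_cast h1
    omega
  refine hmain e η hη fun τ hτ ζ _ _ => ?_
  have h1 : δ ζ ≤ n := by
    by_cases h : genericPoint X = ζ
    · rw [← h, hn]
    · have := (hdf (genericPoint X) ζ (genericPoint_specializes ζ) h).1
      omega
  have h2 := he τ hτ
  omega

/-- **The moving lemma**, at the level of functions, for any function with finite support. -/
theorem exists_movable {K : Type u} [Field K] [IsAlgClosed K] {X : Scheme.{u}}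
    (f : X ⟶ Spec (CommRingCat.of K)) [Smooth f] [IsSeparated f] [QuasiCompact f] [IsIntegral X]
    (δ : X → ℤ) (hX : Cyc.IsSetup X δ) (n : ℤ)
    (hn : δ (genericPoint X) = n)
    (hM : ∀ δP : ↥(CohB1.ProjSpaceOver 1 X) → ℤ,
      Cyc.DeltaCompat (CohB1.ProjSpaceOver.toBase 1 X) δP δ → ∀ η : X, δ η < n →
      ∀ T : Set X, T.Finite → MovLemmaM.Moves f δ n δP η T)
    (r : ℤ) (T : Set X) (hT : T.Finite) (φ : X → ℤ) (hφ : (Function.support φ).Finite)
    (hφr : ∀ x, φ x ≠ 0 → δ x = r) : φ ∈ movG δ n r T := by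
  rw [eq_sum_indicator hφ]
  refine AddSubgroup.sum_mem _ fun x hx => AddSubgroup.zsmul_mem _ ?_ _
  exact indicator_mem f δ hX n hn hM r T hT x (hφr x (by simpa using hx))

end K303.MovingLemma
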