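import Groth.Agent.RegImm.K560.Stalk
import Groth.Agent.Divis.RegImm
import Mathlib.RingTheory.KrullDimension.Regular
import Mathlib.RingTheory.Ideal.KrullsHeightTheorem

/-!
# Dimensions and regular immersions

* `ringKrullDim_add_length`: the length of a regular sequence cutting out `Z` near `i z` is the difference of
  the dimensions of the local rings.
* `ringKrullDim_stalk_le_of_isMin`: Krull's height theorem for the inverse image of `Z → Y` under a regular
  immersion.
-/

set_option autoImplicit false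
universe u

open CategoryTheory AlgebraicGeometry Limits
open RingTheory.Sequence

namespace K303.RegImmDim

variable {X Z : Scheme.{u}}

/-- The length of a regular sequence cutting out `Z` near `i z`. -/
theorem ringKrullDim_add_length (i : Z ⟶ X) (z : Z) [IsNoetherianRing (X.presheaf.stalk (i z))]
    (U : X.affineOpens) (hz : i z ∈ U.1) (hcl : IsClosedImmersion (i ∣_ U.1)) (rs : List Γ(X, U.1))
    (hrs : RegImm.Kind.Seq RegImm.Kind.regular Γ(X, U.1) rs)
    (hker : RingHom.ker (i.app U.1).hom = Ideal.ofList rs) :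
    ringKrullDim (Z.presheaf.stalk z) + (rs.length : ℕ) = ringKrullDim (X.presheaf.stalk (i z)) := by
  have hV := K560.Stalk.isAffineOpen_preimage i U.1 U.2 hcl
  have hs := K560.Stalk.app_surjective i U.1 U.2 hcl
  have h1 := K560.Stalk.ker_stalkMap_of_surjective i z U.1 U.2 hV hs hz
  rw [hker, Ideal.map_ofList] at h1
  have h2 : IsRegular (X.presheaf.stalk (i z)) (rs.map (X.presheaf.germ U.1 (i z) hz).hom) := by
    refine (Groth.Agent.Divis.RegImm.isRegular_iff_ne_top _).mpr
      ⟨K560.Stalk.isWeaklyRegular_germ U.2 hrs.1 _ hz, ?_⟩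
    rw [← h1]
    exact RingHom.ker_ne_top _
  have h3 := ringKrullDim_add_length_eq_ringKrullDim_of_isRegular _ h2
  rw [List.length_map, ← h1] at h3
  rw [← h3]
  congr 1
  have hsurj : Function.Surjective (i.stalkMap z).hom := by
    have hci := hcl
    intro b
    let := X.presheaf.algebra_section_stalk ⟨i z, hz⟩
    have := U.2.isLocalization_stalk ⟨i z, hz⟩
    let := Z.presheaf.algebra_section_stalk (U := i ⁻¹ᵁ U.1) ⟨z, hz⟩
    have := hV.isLocalization_stalk ⟨z, hz⟩
    obtain ⟨⟨a, s⟩, has⟩ := IsLocalization.surj (hV.primeIdealOf ⟨z, hz⟩).asIdeal.primeCompl b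
    obtain ⟨a', rfl⟩ := hs a
    obtain ⟨s', hs'⟩ := hs (s : Γ(Z, i ⁻¹ᵁ U.1))
    have h4 : ∀ c : Γ(X, U.1), (i.stalkMap z).hom ((X.presheaf.germ U.1 (i z) hz).hom c) =
        (Z.presheaf.germ (i ⁻¹ᵁ U.1) z hz).hom ((i.app U.1).hom c) := fun c =>
      Scheme.Hom.germ_stalkMap_apply i U.1 z hz c
    have h5 : IsUnit ((Z.presheaf.germ (i ⁻¹ᵁ U.1) z hz).hom (s : Γ(Z, i ⁻¹ᵁ U.1))) :=
      IsLocalization.map_units (Z.presheaf.stalk z) s
    have h6 : IsUnit ((X.presheaf.germ U.1 (i z) hz).hom s') := by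
      refine isUnit_of_map_unit (i.stalkMap z).hom _ ?_
      rw [h4, hs']
      exact h5
    obtain ⟨v, hv⟩ := h6
    refine ⟨(X.presheaf.germ U.1 (i z) hz).hom a' * ((v⁻¹ : (X.presheaf.stalk (i z))ˣ) : _), ?_⟩
    apply h5.mul_right_cancel
    have h7 : b * (Z.presheaf.germ (i ⁻¹ᵁ U.1) z hz).hom (s : Γ(Z, i ⁻¹ᵁ U.1)) =
        (Z.presheaf.germ (i ⁻¹ᵁ U.1) z hz).hom ((i.app U.1).hom a') := has
    rw [h7, map_mul, h4, ← hs', ← h4 s', mul_assoc, ← map_mul, ← hv, Units.inv_mul, map_one, mul_one]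
  exact (ringKrullDim_eq_of_ringEquiv (RingHom.quotientKerEquivOfSurjective hsurj)).symm

end K303.RegImmDim
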