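import Groth.Agent.IntMult.K303.RegImmDim
import Groth.Agent.CycA.StalkIdeal
import Groth.Agent.CycA.IntLocal
import Mathlib.RingTheory.Ideal.KrullsHeightTheorem
import Mathlib.AlgebraicGeometry.PullbackCarrier

/-!
# Krull's height theorem for inverse images under regular immersions
-/

set_option autoImplicit false
universe u

open CategoryTheory AlgebraicGeometry Limits
open RingTheory.Sequence

namespace K303.RegImmHeight

open Groth.Agent.CycA Groth.Agent.CycB

variable {X Y Z : Scheme.{u}}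

/-- A point of `U` at which all elements of the ideal of `X ∩ U` vanish lies in the image. -/
theorem mem_range_of_forall (f : X ⟶ Y) [IsReduced X] (U : Y.affineOpens)
    (hcl : IsClosedImmersion (f ∣_ U.1)) (w : Y) (hw : w ∈ U.1)
    (h : ∀ r ∈ RingHom.ker (f.app U.1).hom, w ∉ Y.basicOpen r) : w ∈ Set.range f := by
  by_contra hcon
  have hC : IsClosed (Set.range (f ∣_ U.1)) := (f ∣_ U.1).isClosedEmbedding.isClosed_range
  let V : Y.Opens := U.1.ι ''ᵁ ⟨(Set.range (f ∣_ U.1))ᶜ, hC.isOpen_compl⟩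
  have hwV : w ∈ V := by
    refine ⟨⟨w, hw⟩, ?_, rfl⟩
    rintro ⟨x, hx⟩
    apply hcon
    refine ⟨(f ⁻¹ᵁ U.1).ι x, ?_⟩
    rw [← Scheme.Hom.comp_apply, ← morphismRestrict_ι, Scheme.Hom.comp_apply, hx]
    rfl
  obtain ⟨r, hr, hwr⟩ := U.2.exists_basicOpen_le (V := V) ⟨w, hwV⟩ hw
  refine h r ?_ hwr
  rw [RingHom.mem_ker]
  have h1 : X.basicOpen (f.app U.1 r) = ⊥ := by
    rw [← Scheme.preimage_basicOpen, eq_bot_iff]
    intro x hx
    obtain ⟨u, hu, hux⟩ := hr hx
    apply hu
    have hxU : x ∈ f ⁻¹ᵁ U.1 := by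
      change f x ∈ U.1
      have : f x ∈ V := hr hx
      obtain ⟨u', _, hu'⟩ := this
      rw [← hu']
      exact u'.2
    obtain ⟨x₁, hx₁⟩ : ∃ x₁ : ↥(f ⁻¹ᵁ U.1 : X.Opens).toScheme, (f ⁻¹ᵁ U.1).ι x₁ = x := ⟨⟨x, hxU⟩, rfl⟩
    refine ⟨x₁, ?_⟩
    apply U.1.ι.isOpenEmbedding.injective
    rw [← Scheme.Hom.comp_apply, morphismRestrict_ι, Scheme.Hom.comp_apply, hx₁]
    exact hux.symm
  exact (basicOpen_eq_bot_iff _).1 h1

/-- The local ring of `Z` at a generic point of the inverse image of `X` has dimension at most the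
number of equations of `X`. -/
theorem ringKrullDim_stalk_le (f : X ⟶ Y) [IsReduced X] [IsImmersion f] (ι : Z ⟶ Y)
    (t : ↥(pullback f ι)) (ht : ∀ t' : ↥(pullback f ι), t' ⤳ t → t' = t)
    [IsNoetherianRing (Z.presheaf.stalk (pullback.snd f ι t))]
    (U : Y.affineOpens) (hz : f (pullback.fst f ι t) ∈ U.1)
    (hcl : IsClosedImmersion (f ∣_ U.1)) (rs : List Γ(Y, U.1))
    (hker : RingHom.ker (f.app U.1).hom = Ideal.ofList rs) :
    ringKrullDim (Z.presheaf.stalk (pullback.snd f ι t)) ≤ rs.length := by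
  set z := pullback.snd f ι t with hz0
  have hfz : ι z = f (pullback.fst f ι t) := by
    rw [hz0, ← Scheme.Hom.comp_apply, ← Scheme.Hom.comp_apply, pullback.condition]
  have hzU : z ∈ ι ⁻¹ᵁ U.1 := by
    change ι z ∈ U.1
    rw [hfz]
    exact hz
  let φ : Γ(Y, U.1) →+* Z.presheaf.stalk z :=
    (Z.presheaf.germ (ι ⁻¹ᵁ U.1) z hzU).hom.comp (ι.app U.1).hom
  let s : Set (Z.presheaf.stalk z) := {b | b ∈ rs.map φ}
  have hs : s.Finite := List.finite_toSet _
  have hcard : s.ncard ≤ rs.length := by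
    classical
    have h1 : s = ((rs.map φ).toFinset : Set (Z.presheaf.stalk z)) := by
      ext b
      simp [s]
    rw [h1, Set.ncard_coe_finset]
    exact (List.toFinset_card_le _).trans (by simp)
  -- the elements of `ker` vanish at the points of the image
  have hvan : ∀ x : X, ∀ r ∈ RingHom.ker (f.app U.1).hom, f x ∉ Y.basicOpen r := by
    intro x r hr hx
    have h1 : x ∈ f ⁻¹ᵁ Y.basicOpen r := hx
    rw [Scheme.preimage_basicOpen] at h1
    rw [RingHom.mem_ker] at hr
    have h2 : f.app U.1 r = 0 := hr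
    rw [h2, Scheme.basicOpen_zero] at h1
    exact h1
  have hmem : ∀ r ∈ rs, r ∈ RingHom.ker (f.app U.1).hom := by
    intro r hr
    rw [hker]
    exact Ideal.subset_span hr
  have hmin : IsLocalRing.maximalIdeal (Z.presheaf.stalk z) ∈ (Ideal.span s).minimalPrimes := by
    refine ⟨⟨inferInstance, ?_⟩, ?_⟩
    · rw [Ideal.span_le]
      intro b hb
      obtain ⟨r, hr, rfl⟩ := List.mem_map.1 hb
      rw [SetLike.mem_coe, IsLocalRing.mem_maximalIdeal, mem_nonunits_iff]
      intro hu
      have h1 : z ∈ Z.basicOpen (ι.app U.1 r) := (Scheme.mem_basicOpen _ _ _ hzU).2 hu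
      rw [← Scheme.preimage_basicOpen] at h1
      have h2 : ι z ∈ Y.basicOpen r := h1
      rw [hfz] at h2
      exact hvan _ r (hmem r hr) h2
    · rintro q ⟨hq, hsq⟩ -
      obtain ⟨z', hz', hqz⟩ := LocQuot.exists_eq_ker q
      have h1 : ∀ r ∈ rs, ι z' ∉ Y.basicOpen r := by
        intro r hr h2
        have h3 : φ r ∈ q := hsq (Ideal.subset_span (List.mem_map_of_mem hr))
        rw [hqz] at h3
        have h4 := (StalkIdeal.mem_ker_specMap_germ_iff hz' (ι ⁻¹ᵁ U.1) hzU (ι.app U.1 r)).1 h3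
        apply h4
        rw [← Scheme.preimage_basicOpen]
        exact h2
      have hz'U : ι z' ∈ U.1 := (hz'.map ι.continuous).mem_open U.1.2 hzU
      have h5 : ∀ r ∈ RingHom.ker (f.app U.1).hom, ι z' ∉ Y.basicOpen r := by
        intro r hr h6
        rw [hker] at hr
        -- the sections vanishing at `ι z'` form an ideal
        have h7 : Ideal.ofList rs ≤ Ideal.comap (Y.presheaf.germ U.1 (ι z') hz'U).hom
            (IsLocalRing.maximalIdeal (Y.presheaf.stalk (ι z'))) := by
          rw [Ideal.ofList, Ideal.span_le]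
          intro a ha
          rw [SetLike.mem_coe, Ideal.mem_comap, IsLocalRing.mem_maximalIdeal, mem_nonunits_iff]
          intro hu
          exact h1 a ha ((Scheme.mem_basicOpen _ _ _ hz'U).2 hu)
        have h8 := h7 hr
        rw [Ideal.mem_comap, IsLocalRing.mem_maximalIdeal, mem_nonunits_iff] at h8
        exact h8 ((Scheme.mem_basicOpen _ _ _ hz'U).1 h6)
      obtain ⟨x', hx'⟩ := mem_range_of_forall f U hcl (ι z') hz'U h5
      obtain ⟨t', h9, h10⟩ := Scheme.Pullback.exists_preimage_pullback x' z' hx'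
      have h11 : t' ⤳ t := by
        rw [← (pullback.snd f ι).isEmbedding.isInducing.specializes_iff, h10]
        exact hz'
      have h12 := ht t' h11
      have h13 : z' = z := by rw [← h10, h12]
      subst h13
      rw [hqz, LocQuot.ker_refl]
  have h1 := Ideal.height_le_card_of_mem_minimalPrimes_span hs hmin
  rw [← IsLocalRing.maximalIdeal_height_eq_ringKrullDim]
  exact_mod_cast h1.trans (by exact_mod_cast hcard)

end K303.RegImmHeight
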