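import Groth.Agent.IntMult.K303.SheafChi
import Groth.Agent.IntMult.K303.ChiFlat
import Groth.Agent.S1897
import Groth.Agent.FormalB.PullCoh
import Groth.Agent.CycB.RelDim3

/-!
# Flat pullback of the intersection product of the cycles of two coherent modules
-/

set_option autoImplicit false

universe u

open CategoryTheory AlgebraicGeometry CategoryTheory.Limits TensorProduct

namespace K303.SheafPull

open Groth.Agent Groth.Agent.CycA Groth.Agent.CycB Groth.Agent.CycB.LocQuot
  Groth.Agent.CycA.Devissage Groth.Agent.CycA.ChiRec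

variable {X Y : Scheme.{u}}

theorem chi_stalk_pullback (f : X ⟶ Y) [Flat f] (F G : Y.Modules) (x : X) :
    IntMult.chi (X.presheaf.stalk x) (((Scheme.Modules.pullback f).obj F).presheaf.stalk x)
      (((Scheme.Modules.pullback f).obj G).presheaf.stalk x) =
    IntMult.chi (Y.presheaf.stalk (f x)) (F.presheaf.stalk (f x)) (G.presheaf.stalk (f x)) *
      ((Module.length (X.presheaf.stalk x) (X.presheaf.stalk x ⧸ Ideal.map (f.stalkMap x).hom
          (IsLocalRing.maximalIdeal (Y.presheaf.stalk (f x))))).toNat : ℤ) := by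
  let := Fdesc.PullbackStalk.stalkAlg f x
  have : IsLocalHom (algebraMap (Y.presheaf.stalk (f x)) (X.presheaf.stalk x)) :=
    inferInstanceAs (IsLocalHom (f.stalkMap x).hom)
  have : Module.Flat (Y.presheaf.stalk (f x)) (X.presheaf.stalk x) :=
    Flat.stalkMap f x
  have h1 := ChiFlat.chi_baseChange (Y.presheaf.stalk (f x)) (X.presheaf.stalk x)
    (F.presheaf.stalk (f x)) (G.presheaf.stalk (f x))
  rw [IntCore.chi_congr_left (Fdesc.PullbackStalk.stalkPullbackEquiv f F x),
    IntCore.chi_congr_right _ (Fdesc.PullbackStalk.stalkPullbackEquiv f G x)] at h1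
  exact h1

variable {K : Type u} [Field K] [IsAlgClosed K]

theorem chi_of_subsingleton_left {A : Type u} [CommRing A] (M N : Type u) [AddCommGroup M]
    [Module A M] [AddCommGroup N] [Module A N] [Subsingleton M] : IntMult.chi A M N = 0 := by
  unfold IntMult.chi
  refine finsum_eq_zero_of_forall_eq_zero fun i => ?_
  have h0 : Subsingleton (DRing.Tor A i M N) := by
    have h1 : TorBasic.mapL (0 : M →ₗ[A] M) i N = 0 := TorBasic.mapL_zero i N
    have h2 : (0 : M →ₗ[A] M) = LinearMap.id := by
      ext m
      exact Subsingleton.elim _ _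
    rw [h2, TorBasic.mapL_id] at h1
    refine subsingleton_of_forall_eq 0 fun z => ?_
    exact LinearMap.congr_fun h1 z
  rw [Module.length_eq_zero]
  simp

theorem chi_of_subsingleton_right {A : Type u} [CommRing A] (M N : Type u) [AddCommGroup M]
    [Module A M] [AddCommGroup N] [Module A N] [Subsingleton N] : IntMult.chi A M N = 0 := by
  rw [IntCore.chi_comm]
  exact chi_of_subsingleton_left N M

theorem main (f : X ⟶ Y) (gX : X ⟶ Spec (CommRingCat.of K)) (gY : Y ⟶ Spec (CommRingCat.of K))
    (hf : f ≫ gY = gX) [Smooth gX] [IsSeparated gX] [IsIntegral X]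
    [Smooth gY] [IsSeparated gY] [IsIntegral Y] [Flat f] (δX : X → ℤ)
    (δY : Y → ℤ) (hX : Cyc.IsSetup X δX) (hY : Cyc.IsSetup Y δY)
    (hδX : Cyc.DeltaCompat gX δX (fun _ => 0)) (hδY : Cyc.DeltaCompat gY δY (fun _ => 0))
    (hδ : Cyc.DeltaCompat f δX δY) (n m : ℤ) (hn : δX (genericPoint X) = n)
    (hm : δY (genericPoint Y) = m) (e : ℕ) (he : (e : ℤ) = n - m) (hrel : Cyc.HasRelDim f e)
    (F G : Y.Modules) (hF : Coh.IsCoh F) (hG : Coh.IsCoh G) (r s : ℤ)
    (hr : ∀ y : Y, Nontrivial (F.presheaf.stalk y) → δY y ≤ r)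
    (hs : ∀ y : Y, Nontrivial (G.presheaf.stalk y) → δY y ≤ s)
    (hrs : ∀ y : Y, Nontrivial (F.presheaf.stalk y) → Nontrivial (G.presheaf.stalk y) →
      δY y ≤ r + s - m) :
    IntMult.IntersectProperly δX n
      (Cyc.sheafFun δX (r + e) ((Scheme.Modules.pullback f).obj F))
      (Cyc.sheafFun δX (s + e) ((Scheme.Modules.pullback f).obj G)) ∧
    Cyc.pullFun f δX δY e (IntMult.interProd δY m (Cyc.sheafFun δY r F) (Cyc.sheafFun δY s G)) =
      IntMult.interProd δX n (Cyc.sheafFun δX (r + e) ((Scheme.Modules.pullback f).obj F))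
        (Cyc.sheafFun δX (s + e) ((Scheme.Modules.pullback f).obj G)) := by
  have hNX : IsLocallyNoetherian X := hX.1
  have hNY : IsLocallyNoetherian Y := hY.1
  have hlft : LocallyOfFiniteType f := by
    have : LocallyOfFiniteType (f ≫ gY) := by rw [hf]; infer_instance
    exact locallyOfFiniteType_of_comp f gY
  have hnt : ∀ (F : Y.Modules) (x : X),
      Nontrivial (((Scheme.Modules.pullback f).obj F).presheaf.stalk x) →
      Nontrivial (F.presheaf.stalk (f x)) := by
    intro F x hx
    by_contra hcon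
    rw [not_nontrivial_iff_subsingleton] at hcon
    exact not_subsingleton _ (PullLen.subsingleton_stalk_pullback f F x)
  have hF' : Coh.IsCoh ((Scheme.Modules.pullback f).obj F) :=
    FormalB.PullCoh.isCoh_pullback f hF
  have hG' : Coh.IsCoh ((Scheme.Modules.pullback f).obj G) :=
    FormalB.PullCoh.isCoh_pullback f hG
  have hle : ∀ x, δX x ≤ δY (f x) + e := RelDim.delta_le hrel hδ
  have hr' : ∀ x : X, Nontrivial (((Scheme.Modules.pullback f).obj F).presheaf.stalk x) →
      δX x ≤ r + e := by
    intro x hx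
    have h1 := hr _ (hnt F x hx)
    have h2 := hle x
    omega
  have hs' : ∀ x : X, Nontrivial (((Scheme.Modules.pullback f).obj G).presheaf.stalk x) →
      δX x ≤ s + e := by
    intro x hx
    have h1 := hs _ (hnt G x hx)
    have h2 := hle x
    omega
  have hrs' : ∀ x : X, Nontrivial (((Scheme.Modules.pullback f).obj F).presheaf.stalk x) →
      Nontrivial (((Scheme.Modules.pullback f).obj G).presheaf.stalk x) →
      δX x ≤ (r + e) + (s + e) - n := by
    intro x hx hx'
    have h1 := hrs _ (hnt F x hx) (hnt G x hx')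
    have h2 := hle x
    omega
  refine ⟨SheafChi.intersectProperly _ _ hF'.1 hG'.1 hrs', ?_⟩
  funext x
  rw [SheafChi.interProd_sheafFun gX hδX hn _ _ hF' hG' hr' hs' hrs', Cyc.pullFun,
    SheafChi.interProd_sheafFun gY hδY hm F G hF hG hr hs hrs, chi_stalk_pullback]
  by_cases hN : Nontrivial (F.presheaf.stalk (f x)) ∧ Nontrivial (G.presheaf.stalk (f x))
  · have h1 := hrs _ hN.1 hN.2
    have h2 := hle x
    by_cases h3 : δX x = δY (f x) + e
    · rw [if_pos h3]
      by_cases h4 : δY (f x) = r + s - m
      · rw [if_pos h4, if_pos (by omega)]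
      · rw [if_neg h4, if_neg (by omega), zero_mul]
    · rw [if_neg h3, if_neg (by omega)]
  · have h0 : IntMult.chi (Y.presheaf.stalk (f x)) (F.presheaf.stalk (f x))
        (G.presheaf.stalk (f x)) = 0 := by
      rw [not_and_or, not_nontrivial_iff_subsingleton, not_nontrivial_iff_subsingleton] at hN
      rcases hN with hN | hN
      · exact chi_of_subsingleton_left _ _
      · exact chi_of_subsingleton_right _ _
    rw [h0, zero_mul]
    simp

end K303.SheafPull
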